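import Cfsg.Agent.Lib.FusionIso.Basic
import Cfsg.Agent.Lib.Fusion.Group

/-
The fusion system that a subgroup `H` induces on `T ≤ H`, and factor systems by the trivial subgroup.
Main results (namespace `Cfsg.Agent.FusionIso`): `subgroupIso`, `isSaturated_subgroup`,
`imT_subtype`, `ofFactorBot`.
-/

set_option autoImplicit false

namespace Cfsg.Agent.FusionIso

open Cfsg Cfsg.FusionSystem Cfsg.Agent.Fusion

variable {G : Type*} [Group G]

open Classical in
/-- A left inverse of the inclusion of `H`. -/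
noncomputable def subInv (H : Subgroup G) (x : G) : H := if h : x ∈ H then ⟨x, h⟩ else 1

theorem subInv_coe {H : Subgroup G} {x : G} (h : x ∈ H) : (subInv H x : G) = x := by simp [subInv, h]

theorem imT_subtype {H : Subgroup G} (P : Subgroup H) :
    imT (fun x : H => (x : G)) P = P.map H.subtype := by
  refine le_antisymm ?_ fun y hy => Subgroup.subset_closure hy
  rw [imT, Subgroup.closure_le]
  exact fun y hy => hy

theorem imT_subInv {H : Subgroup G} {P : Subgroup G} (hP : P ≤ H) :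
    imT (subInv H) P = P.subgroupOf H := by
  refine le_antisymm ?_ ?_
  swap
  · intro x hx
    exact Subgroup.subset_closure ⟨(x : G), hx, Subtype.ext (subInv_coe x.2)⟩
  rw [imT, Subgroup.closure_le]
  rintro _ ⟨x, hx, rfl⟩
  show (subInv H x : G) ∈ P
  rwa [subInv_coe (hP hx)]

/-- The fusion system of the group `H` on `T` is that of `H` inside `G` on `T`. -/
noncomputable def subgroupIso {H T : Subgroup G} (hTH : T ≤ H) :
    FIso (groupFusionSystem (T.subgroupOf H)) (fusionSystemOfSubgroup H T hTH) where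
  toFun x := (x : G)
  invFun := subInv H
  mem _ hx := hx
  mem' y hy := by
    show (subInv H y : G) ∈ T
    rwa [subInv_coe (hTH hy)]
  left x _ := Subtype.ext (subInv_coe x.2)
  right y hy := subInv_coe (hTH hy)
  mul _ _ _ _ := rfl
  fwd := by
    intro P f hf
    obtain ⟨hP, g, hg⟩ := isMap_group_iff.1 hf
    rw [isMap_subgroup_iff, imT_subtype]
    refine ⟨?_, g, g.2, ?_⟩
    · rintro _ ⟨x, hx, rfl⟩
      exact hP hx
    · rintro _ ⟨x, hx, rfl⟩
      obtain ⟨h1, h2⟩ := hg x hx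
      refine ⟨h1, ?_⟩
      have : subInv H (H.subtype x) = x := Subtype.ext (subInv_coe x.2)
      rw [this, h2]
      rfl
  bwd := by
    intro P' f' hf'
    obtain ⟨hP, g, hg, h⟩ := (isMap_subgroup_iff hTH).1 hf'
    rw [isMap_group_iff, imT_subInv (hP.trans hTH)]
    refine ⟨fun x hx => hP hx, ⟨g, hg⟩, fun x hx => ?_⟩
    obtain ⟨h1, h2⟩ := h x hx
    refine ⟨h1, Subtype.ext ?_⟩
    rw [subInv_coe]
    · exact h2
    · rw [h2]; exact hTH h1

/-- The fusion system of a finite group `H ≤ G` on a Sylow subgroup is saturated. -/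
theorem isSaturated_subgroup [Finite G] {p : ℕ} [Fact p.Prime] {H T : Subgroup G}
    (hT : IsSylowIn p T H) : (fusionSystemOfSubgroup H T hT.le).IsSaturated p := by
  obtain ⟨R, hR⟩ := (isSylowIn_iff_exists hT.le).1 hT
  have h := isSaturated_group R
  rw [hR] at h
  exact (subgroupIso hT.le).isSaturated h

section Factor

variable {Ω Ω' : Type*} [Group Ω] [Group Ω'] {S : Subgroup Ω} {S' : Subgroup Ω'}
  {F : FusionSystem S} {θ : S →* Ω'} {E : FusionSystem S'}

open Classical in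
/-- A homomorphism on `S` extended by one outside `S`. -/
noncomputable def extendOne (θ : S →* Ω') (x : Ω) : Ω' := if h : x ∈ S then θ ⟨x, h⟩ else 1

theorem extendOne_apply (θ : S →* Ω') {x : Ω} (h : x ∈ S) : extendOne θ x = θ ⟨x, h⟩ := by
  simp [extendOne, h]

open Classical in
/-- A right inverse of a homomorphism on `S`. -/
noncomputable def rangeInv (θ : S →* Ω') (y : Ω') : Ω :=
  if h : y ∈ θ.range then ((Classical.choose h : S) : Ω) else 1

theorem rangeInv_spec (θ : S →* Ω') {y : Ω'} (h : y ∈ θ.range) :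
    ∃ hx : rangeInv θ y ∈ S, θ ⟨rangeInv θ y, hx⟩ = y := by
  simp only [rangeInv, dif_pos h]
  exact ⟨Subtype.prop _, Classical.choose_spec h⟩

theorem injective_of_factorBot (h : F.IsFactorSystem ⊥ θ E) : Function.Injective θ := by
  refine (injective_iff_map_eq_one θ).2 fun s hs => Subtype.ext ?_
  exact Subgroup.mem_bot.1 ((h.2.1 s).1 hs)

/-- The factor system by the trivial subgroup is isomorphic to the system. -/
noncomputable def ofFactorBot (h : F.IsFactorSystem ⊥ θ E) : FIso F E where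
  toFun := extendOne θ
  invFun := rangeInv θ
  mem x hx := by rw [extendOne_apply θ hx, ← h.2.2.1]; exact ⟨_, rfl⟩
  mem' y hy := (rangeInv_spec θ (h.2.2.1 ▸ hy : y ∈ θ.range)).1
  left x hx := by
    have hy : extendOne θ x ∈ θ.range := ⟨⟨x, hx⟩, (extendOne_apply θ hx).symm⟩
    obtain ⟨h1, h2⟩ := rangeInv_spec θ hy
    exact congrArg Subtype.val (injective_of_factorBot h (h2.trans (extendOne_apply θ hx)))
  right y hy := by
    obtain ⟨h1, h2⟩ := rangeInv_spec θ (h.2.2.1 ▸ hy : y ∈ θ.range)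
    rw [extendOne_apply θ h1, h2]
  mul x hx y hy := by
    rw [extendOne_apply θ hx, extendOne_apply θ hy, extendOne_apply θ (mul_mem hx hy), ← map_mul]
    rfl
  fwd := by
    intro P f hf
    have hPS := hf.le
    obtain ⟨φ, hφ, e⟩ := hf
    have him : ∀ x ∈ P, extendOne θ x ∈ imT (extendOne θ) P := fun x hx =>
      Subgroup.subset_closure ⟨x, hx, rfl⟩
    have hmem : imT (extendOne θ) P = (P.subgroupOf S).map θ := by
      refine le_antisymm ?_ ?_
      · rw [imT, Subgroup.closure_le]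
        rintro _ ⟨x, hx, rfl⟩
        exact ⟨⟨x, hPS hx⟩, hx, (extendOne_apply θ (hPS hx)).symm⟩
      · rintro _ ⟨x, hx, rfl⟩
        exact extendOne_apply θ x.2 ▸ him x hx
    have hpre : preimageAlong θ ((P.subgroupOf S).map θ) = P := by
      rw [preimageAlong, Subgroup.comap_map_eq_self_of_injective (injective_of_factorBot h),
        Subgroup.subgroupOf_map_subtype, inf_eq_left.2 hPS]
    rw [hmem]
    let ψ := (MulEquiv.toMonoidHom (Subgroup.equivMapOfInjective (P.subgroupOf S) θ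
      (injective_of_factorBot h)).symm)
    refine ⟨θ.comp ((φ.codRestrict S fun x => (F.le_of_mem hφ).2 x).comp
        (((Subgroup.subgroupOfEquivOfLe hPS).toMonoidHom).comp ψ)), (h.2.2.2 _ _).2 ⟨?_, ?_⟩, ?_⟩
    · rintro _ ⟨x, -, rfl⟩
      exact h.2.2.1 ▸ ⟨x, rfl⟩
    · rw [hpre]
      refine ⟨φ, hφ, hPS, fun x => (F.le_of_mem hφ).2 x, fun x => ⟨⟨x, hPS x.2⟩, x.2, rfl⟩,
        fun x => ?_⟩
      show θ ⟨φ (Subgroup.subgroupOfEquivOfLe hPS (ψ _)), _⟩ = _
      congr 1
      refine Subtype.ext (congrArg φ ?_)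
      have : ψ ⟨θ ⟨x, hPS x.2⟩, ⟨⟨x, hPS x.2⟩, x.2, rfl⟩⟩ = ⟨⟨x, hPS x.2⟩, x.2⟩ :=
        (Subgroup.equivMapOfInjective (P.subgroupOf S) θ (injective_of_factorBot h)).symm_apply_apply
          ⟨⟨x, hPS x.2⟩, x.2⟩
      rw [this]
      rfl
    · intro y hy
      show θ ⟨φ (Subgroup.subgroupOfEquivOfLe hPS (ψ ⟨y, hy⟩)), _⟩ = _
      obtain ⟨x, hx, rfl⟩ := hy
      have : ψ ⟨θ x, ⟨x, hx, rfl⟩⟩ = ⟨x, hx⟩ :=
        (Subgroup.equivMapOfInjective (P.subgroupOf S) θ (injective_of_factorBot h)).symm_apply_apply ⟨x, hx⟩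
      refine (congrArg θ (Subtype.ext (congrArg (fun z => φ (Subgroup.subgroupOfEquivOfLe hPS z))
        this))).trans (?_ : θ ⟨φ (Subgroup.subgroupOfEquivOfLe hPS ⟨x, hx⟩), (F.le_of_mem hφ).2 _⟩ = _)
      show _ = extendOne θ (f (rangeInv θ (θ x)))
      obtain ⟨h1, h2⟩ := rangeInv_spec θ (y := θ x) ⟨x, rfl⟩
      have hr : rangeInv θ (θ x) = (x : Ω) := congrArg Subtype.val (injective_of_factorBot h h2)
      rw [hr, ← e (x : Ω) hx, extendOne_apply θ ((F.le_of_mem hφ).2 _)]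
      rfl
  bwd := by
    intro P' f' hf'
    obtain ⟨φ', hφ', e⟩ := hf'
    obtain ⟨hP', φ, hφ, hP, hφS, hPP', he⟩ := (h.2.2.2 P' φ').1 hφ'
    have hdom : imT (rangeInv θ) P' = preimageAlong θ P' := by
      refine le_antisymm ?_ fun x hx => ?_
      · rw [imT, Subgroup.closure_le]
        rintro _ ⟨y, hy, rfl⟩
        obtain ⟨h1, h2⟩ := rangeInv_spec θ (h.2.2.1 ▸ hP' hy : y ∈ θ.range)
        exact ⟨⟨_, h1⟩, show θ _ ∈ P' from h2.symm ▸ hy, rfl⟩
      · have hy := hPP' ⟨x, hx⟩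
        refine Subgroup.subset_closure ⟨_, hy, ?_⟩
        obtain ⟨h1, h2⟩ := rangeInv_spec θ (y := θ ⟨x, hP hx⟩) ⟨_, rfl⟩
        exact congrArg Subtype.val (injective_of_factorBot h h2)
    rw [hdom]
    refine ⟨φ, hφ, fun x hx => ?_⟩
    have h1 := he ⟨x, hx⟩
    show φ ⟨x, hx⟩ = rangeInv θ (f' (extendOne θ x))
    rw [extendOne_apply θ (hP hx), ← e _ (hPP' ⟨x, hx⟩), h1]
    obtain ⟨h3, h4⟩ := rangeInv_spec θ (y := θ ⟨φ ⟨x, hx⟩, hφS _⟩) ⟨_, rfl⟩
    exact (congrArg Subtype.val (injective_of_factorBot h h4)).symm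

end Factor

end Cfsg.Agent.FusionIso
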