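import Cfsg.Agent.Lib.FusionIso.Basic
import Cfsg.Agent.Lib.FusionNormal.Basic

/-
Transport of subsystems and of simplicity along isomorphisms of fusion systems.
Main results (namespace `Cfsg.Agent.FusionIso`): `FIso.pullSub`, `FIso.subIso`, `FIso.exists_aut`,
`FIso.isNormalIn_pullSub`, `FIso.isSimple`.
-/

set_option autoImplicit false

namespace Cfsg.Agent.FusionIso

open Cfsg Cfsg.FusionSystem Cfsg.Agent.Fusion Cfsg.Agent.FusionNormal

namespace FIso

variable {Ω Ω' : Type*} [Group Ω] [Group Ω'] {S : Subgroup Ω} {S' : Subgroup Ω'}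
  {F : FusionSystem S} {F' : FusionSystem S'} (e : FIso F F')

theorem im_img {P : Subgroup Ω} {f : Ω → Ω} (hf : IsMap F P f) {Q : Subgroup Ω} (hQ : Q ≤ P) :
    e.im (img f Q) = img (e.fn f) (e.im Q) := by
  have hQS : Q ≤ S := hQ.trans hf.le
  have hfe := e.isMap_fn hf
  refine le_antisymm (fun y hy => ?_) (hfe.img_le (e.im_mono hQ) fun z hz => ?_)
  · obtain ⟨x, hx, rfl⟩ := (e.mem_im (hf.img_le hQ fun x hx => hf.mem (hQ hx))).1 hy
    obtain ⟨q, hq, rfl⟩ := (hf.mem_img_iff hQ).1 hx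
    rw [← e.fn_apply f (hQS hq)]
    exact hfe.mem_img (e.mem_im_of_mem hq)
  · obtain ⟨q, hq, rfl⟩ := (e.mem_im hQS).1 hz
    rw [e.fn_apply f (hQS hq)]
    exact e.mem_im_of_mem (hf.mem_img hq)

theorem im_bot : e.im ⊥ = ⊥ := by
  refine le_bot_iff.1 fun y hy => ?_
  obtain ⟨x, hx, rfl⟩ := (e.mem_im bot_le).1 hy
  rw [Subgroup.mem_bot.1 hx, e.map_one]
  exact one_mem _

/-- Automorphisms in the system move along the isomorphism. -/
theorem exists_aut {U : Subgroup Ω} {U' : Subgroup Ω'} (hU : U ≤ S) (hU' : U' = e.im U) :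
    (∀ α ∈ F.autGroup U, ∃ α' ∈ F'.autGroup U',
      ∀ x ∈ U, autFn α' (e.toFun x) = e.toFun (autFn α x)) ∧
    ∀ α' ∈ F'.autGroup U', ∃ α ∈ F.autGroup U,
      ∀ x ∈ U, autFn α' (e.toFun x) = e.toFun (autFn α x) := by
  subst hU'
  have key : ∀ (α : MulAut U) (x : Ω), x ∈ U →
      autFn (MulAut.congr (e.equivIm hU) α) (e.toFun x) = e.toFun (autFn α x) := fun α x hx => by
    rw [autFn_apply _ (e.mem_im_of_mem hx), e.equivIm_congr_apply hU α hx, autFn_apply α hx]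
  refine ⟨fun α hα => ⟨_, (e.congr_mem_autGroup_iff hU).2 hα, key α⟩, fun α' hα' => ?_⟩
  obtain ⟨α, rfl⟩ := (MulAut.congr (e.equivIm hU)).surjective α'
  exact ⟨α, (e.congr_mem_autGroup_iff hU).1 hα', key α⟩

section Sub

variable {T : Subgroup Ω} {T' : Subgroup Ω'}

theorem invFun_mem_of_eq (hT : T ≤ S) (hT' : T' = e.im T) {y : Ω'} (hy : y ∈ T') :
    e.invFun y ∈ T := by
  subst hT'
  exact e.invFun_mem hT hy

/-- The subsystem over `T` corresponding to a subsystem over the image of `T`. -/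
noncomputable def pullSub (hT : T ≤ S) (hT' : T' = e.im T) (E' : FusionSystem T') :
    FusionSystem T where
  Hom P := {φ | P ≤ T ∧ (∀ x : P, φ x ∈ T) ∧ IsMap E' (e.im P) (e.fn (toFn φ))}
  le_of_mem h := ⟨h.1, h.2.1⟩
  injective_of_mem := by
    rintro P φ ⟨hP, hφ, hm⟩ a b hab
    refine Subtype.ext (e.inj (hT (hP a.2)) (hT (hP b.2))
      (hm.inj (e.mem_im_of_mem a.2) (e.mem_im_of_mem b.2) ?_))
    rw [e.fn_apply _ (hT (hP a.2)), e.fn_apply _ (hT (hP b.2)), toFn_coe, toFn_coe, hab]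
  conj_mem := by
    intro P g hP hg
    refine ⟨hP, fun x => mul_mem (mul_mem hg (hP x.2)) (Subgroup.inv_mem _ hg), ?_⟩
    refine (IsMap.conj ((e.im_mono hP).trans hT'.ge) (hT'.ge (e.mem_im_of_mem hg))).congr
      fun y hy => ?_
    obtain ⟨x, hx, rfl⟩ := (e.mem_im (hP.trans hT)).1 hy
    rw [e.fn_apply _ (hT (hP hx)), toFn_apply _ hx]
    exact (e.map_conj (hT hg) (hT (hP hx))).symm
  comp_mem := by
    rintro P Q φ ψ ⟨hP, hφ, hm⟩ ⟨hQ, hψ, hn⟩ h
    refine ⟨hP, fun x => hψ _, (hm.comp hn fun y hy => ?_).congr fun y hy => ?_⟩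
    · obtain ⟨x, hx, rfl⟩ := (e.mem_im (hP.trans hT)).1 hy
      rw [e.fn_apply _ (hT (hP hx)), toFn_apply φ hx]
      exact e.mem_im_of_mem (h ⟨x, hx⟩)
    · obtain ⟨x, hx, rfl⟩ := (e.mem_im (hP.trans hT)).1 hy
      rw [e.fn_apply _ (hT (hP hx)), e.fn_apply _ (hT (hP hx)), toFn_apply φ hx,
        e.fn_apply _ (hT (hφ _)), toFn_apply ψ (h ⟨x, hx⟩), toFn_apply _ hx]
      rfl
  inv_mem := by
    rintro P φ ⟨hP, hφ, hm⟩
    have hinj : Function.Injective φ := fun a b hab => by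
      refine Subtype.ext (e.inj (hT (hP a.2)) (hT (hP b.2))
        (hm.inj (e.mem_im_of_mem a.2) (e.mem_im_of_mem b.2) ?_))
      rw [e.fn_apply _ (hT (hP a.2)), e.fn_apply _ (hT (hP b.2)), toFn_coe, toFn_coe, hab]
    set eφ : P ≃* φ.range := MonoidHom.ofInjective hinj
    have hval : ∀ x : P, eφ.symm ⟨φ x, x, rfl⟩ = x := fun x => eφ.symm_apply_apply x
    obtain ⟨g, hg, hg1, -⟩ := hm.isIso.symm
    have hR : φ.range ≤ T := by rintro _ ⟨x, rfl⟩; exact hφ x
    have himg : e.im φ.range = img (e.fn (toFn φ)) (e.im P) := by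
      refine le_antisymm (fun y hy => ?_) (hm.img_le le_rfl fun z hz => ?_)
      · obtain ⟨_, ⟨x, rfl⟩, rfl⟩ := (e.mem_im (hR.trans hT)).1 hy
        rw [← toFn_coe φ x, ← e.fn_apply _ (hT (hP x.2))]
        exact hm.mem_img (e.mem_im_of_mem x.2)
      · obtain ⟨x, hx, rfl⟩ := (e.mem_im (hP.trans hT)).1 hz
        rw [e.fn_apply _ (hT (hP hx)), toFn_apply φ hx]
        exact e.mem_im_of_mem ⟨⟨x, hx⟩, rfl⟩
    refine ⟨P.subtype.comp eφ.symm.toMonoidHom, ⟨hR, fun y => hP (eφ.symm y).2, ?_⟩, fun x => ?_⟩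
    · rw [himg]
      refine hg.1.congr fun z hz => ?_
      obtain ⟨w, hw, rfl⟩ := (hm.mem_img_iff le_rfl).1 hz
      obtain ⟨x, hx, rfl⟩ := (e.mem_im (hP.trans hT)).1 hw
      have hxR : toFn φ x ∈ φ.range := MonoidHom.mem_range.2 ⟨⟨x, hx⟩, (toFn_apply φ hx).symm⟩
      rw [hg1 _ hw, e.fn_apply _ (hT (hP hx)), e.fn_apply _ (hT (hR hxR)), toFn_apply _ hxR]
      have h2 : eφ.symm ⟨toFn φ x, hxR⟩ = ⟨x, hx⟩ :=
        (congrArg eφ.symm (Subtype.ext (toFn_apply φ hx))).trans (hval ⟨x, hx⟩)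
      exact congrArg (fun z : P => e.toFun z) h2.symm
    · exact congrArg Subtype.val (hval x)

theorem isMap_pullSub_iff (hT : T ≤ S) (hT' : T' = e.im T) (E' : FusionSystem T')
    {P : Subgroup Ω} (hP : P ≤ T) {f : Ω → Ω} (hf : ∀ x ∈ P, f x ∈ T) :
    IsMap (e.pullSub hT hT' E') P f ↔ IsMap E' (e.im P) (e.fn f) := by
  have hPS : P ≤ S := hP.trans hT
  constructor
  · rintro ⟨φ, ⟨-, -, hm⟩, he⟩
    refine hm.congr fun y hy => ?_
    obtain ⟨x, hx, rfl⟩ := (e.mem_im hPS).1 hy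
    rw [e.fn_apply _ (hPS hx), e.fn_apply _ (hPS hx), toFn_apply φ hx, he x hx]
  · intro h
    have hmul : ∀ a b : P, f ((a * b : P) : Ω) = f a * f b := by
      intro a b
      have hab : e.fn f (e.toFun ((a * b : P) : Ω)) = e.toFun (f a * f b) := by
        rw [show ((a * b : P) : Ω) = (a : Ω) * b from rfl, e.mul _ (hPS a.2) _ (hPS b.2),
          h.map_mul (e.mem_im_of_mem a.2) (e.mem_im_of_mem b.2), e.fn_apply _ (hPS a.2),
          e.fn_apply _ (hPS b.2), e.mul _ (hT (hf a a.2)) _ (hT (hf b b.2))]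
      rw [e.fn_apply _ (hPS (a * b).2)] at hab
      exact e.inj (hT (hf _ (a * b).2)) (mul_mem (hT (hf a a.2)) (hT (hf b b.2))) hab
    refine ⟨MonoidHom.mk' (fun x : P => f x) hmul, ⟨hP, fun x => hf x x.2, h.congr fun y hy => ?_⟩,
      fun x _ => rfl⟩
    obtain ⟨x, hx, rfl⟩ := (e.mem_im hPS).1 hy
    rw [e.fn_apply _ (hPS hx), e.fn_apply _ (hPS hx), toFn_apply _ hx]
    rfl

/-- The pulled back subsystem is isomorphic to the original one. -/
noncomputable def subIso (hT : T ≤ S) (hT' : T' = e.im T) (E' : FusionSystem T') :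
    FIso (e.pullSub hT hT' E') E' where
  toFun := e.toFun
  invFun := e.invFun
  mem x hx := hT'.ge (e.mem_im_of_mem hx)
  mem' y hy := e.invFun_mem_of_eq hT hT' hy
  left x hx := e.left x (hT hx)
  right y hy := e.right y (e.im_le hT (hT'.le hy))
  mul x hx y hy := e.mul x (hT hx) y (hT hy)
  fwd P f hf := (e.isMap_pullSub_iff hT hT' E' hf.le fun x hx => hf.mem hx).1 hf
  bwd P' f' hf' := by
    have hle : e.symm.im P' ≤ T := fun x hx => by
      obtain ⟨y, hy, rfl⟩ := (e.symm.mem_im ((hf'.le.trans hT'.le).trans (e.im_le hT))).1 hx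
      exact e.invFun_mem_of_eq hT hT' (hf'.le hy)
    have hP' : P' ≤ S' := (hf'.le.trans hT'.le).trans (e.im_le hT)
    have hval : ∀ x ∈ e.symm.im P', e.toFun x ∈ P' := fun x hx => by
      obtain ⟨y, hy, rfl⟩ := (e.symm.mem_im hP').1 hx
      show e.toFun (e.invFun y) ∈ P'
      rwa [e.right y (hP' hy)]
    refine (e.isMap_pullSub_iff hT hT' E' (f := fun x => e.invFun (f' (e.toFun x))) hle
      fun x hx => e.invFun_mem_of_eq hT hT' (hf'.mem (hval x hx))).2 ?_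
    rw [e.im_symm_im hP']
    refine hf'.congr fun y hy => ?_
    show f' y = e.toFun (e.invFun (f' (e.toFun (e.invFun y))))
    rw [e.right y (hP' hy), e.right _ (e.im_le hT (hT'.le (hf'.mem hy)))]

theorem isNormalIn_pullSub (hT : T ≤ S) (hT' : T' = e.im T) {E' : FusionSystem T'} {p : ℕ}
    (hF : F.IsSaturated p) (h : E'.IsNormalIn F' p) :
    (e.pullSub hT hT' E').IsNormalIn F p := by
  obtain ⟨⟨hsat, -, hinv⟩, hext⟩ := h
  have hsub : (e.pullSub hT hT' E').IsSubsystemOf F := by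
    rintro P φ ⟨hP, hφ, hm⟩
    exact mem_of_isMap ((e.isMap_iff (hP.trans hT) (f := toFn φ) fun x hx => by
      rw [toFn_apply φ hx]; exact hT (hφ _)).1 (isMap_of_sub hinv.1 hm)) fun x => (toFn_coe φ x).symm
  have hclosed : F.StronglyClosed T := by
    have := e.symm.stronglyClosed hinv.2.1
    rwa [hT', e.symm_im_im hT] at this
  refine ⟨⟨(e.subIso hT hT' E').symm.isSaturated hsat, hF, hsub, hclosed, ?_, ?_⟩, ?_⟩
  · intro P hP φ hφ α hα
    obtain ⟨α', hα', hαα'⟩ := (e.exists_aut hT hT').1 α hα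
    have hPS := hP.trans hT
    have hm : IsMap E' (e.im P) (e.fn (toFn φ)) := hφ.2.2
    obtain ⟨g, hg, hge⟩ := transport_map hinv ((e.im_mono hP).trans hT'.ge) hm hα'
    have hαS : IsMap F T (autFn α) := (mem_autGroup_iff hT).1 hα
    set D := (P.subgroupOf T).map (T.subtype.comp α.toMonoidHom) with hD
    have hDimg : D = img (autFn α) P := by
      refine le_antisymm ?_ (hαS.img_le hP fun x hx => ?_)
      · rintro _ ⟨x, hx, rfl⟩
        exact Subgroup.subset_closure ⟨x, hx, autFn_apply α x.2⟩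
      · exact ⟨⟨x, hP hx⟩, hx, (autFn_apply α (hP hx)).symm⟩
    have hDT : D ≤ T := by rintro _ ⟨x, -, rfl⟩; exact (α x).2
    have himD : e.im D = img (autFn α') (e.im P) := by
      rw [hDimg, e.im_img hαS hP]
      refine img_congr fun y hy => ?_
      obtain ⟨x, hx, rfl⟩ := (e.mem_im hPS).1 hy
      rw [e.fn_apply _ (hPS hx), hαα' x (hP hx)]
    have hmem : ∀ z ∈ D, e.invFun (g (e.toFun z)) ∈ T := fun z hz =>
      e.invFun_mem_of_eq hT hT' (hg.mem (himD ▸ e.mem_im_of_mem hz))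
    have hmap : IsMap (e.pullSub hT hT' E') D (fun z => e.invFun (g (e.toFun z))) := by
      refine (e.isMap_pullSub_iff hT hT' E' hDT hmem).2 ?_
      rw [himD]
      refine hg.congr fun y hy => ?_
      obtain ⟨z, hz, rfl⟩ := (e.mem_im (hDT.trans hT)).1 (himD.ge hy)
      rw [e.fn_apply _ (hT (hDT hz)), e.right _ (e.im_le hT (hT'.le (hg.mem hy)))]
    obtain ⟨χ, hχ, hχe⟩ := hmap
    refine ⟨χ, hχ, fun x hx hαx => ?_⟩
    rw [hχe]
    show e.invFun (g (e.toFun _)) = _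
    have h1 : e.toFun ((α ⟨(x : Ω), hP x.2⟩ : T) : Ω) = autFn α' (e.toFun x) := by
      rw [hαα' x (hP x.2), autFn_apply α (hP x.2)]
    rw [h1, hge _ (e.mem_im_of_mem x.2), e.fn_apply _ (hPS x.2), toFn_coe, hαα' _ hx,
      e.left _ (hT (autFn_mem α hx)), autFn_apply α hx]
  · intro P hP φ hφ
    have hPS := hP.trans hT
    obtain ⟨α', hα', f₀, hf₀, hfe⟩ := frattini_map hinv ((e.im_mono hP).trans hT'.ge)
      (e.isMap_fn (isMap_toFn hφ))
    obtain ⟨α, hα, hαα'⟩ := (e.exists_aut hT hT').2 α' hα'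
    have hmem : ∀ x ∈ P, e.invFun (f₀ (e.toFun x)) ∈ T := fun x hx =>
      e.invFun_mem_of_eq hT hT' (hf₀.mem (e.mem_im_of_mem hx))
    have hmap : IsMap (e.pullSub hT hT' E') P (fun x => e.invFun (f₀ (e.toFun x))) := by
      refine (e.isMap_pullSub_iff hT hT' E' hP hmem).2 (hf₀.congr fun y hy => ?_)
      obtain ⟨x, hx, rfl⟩ := (e.mem_im hPS).1 hy
      rw [e.fn_apply _ (hPS hx), e.right _ (e.im_le hT (hT'.le (hf₀.mem hy)))]
    obtain ⟨φ₀, hφ₀, hφ₀e⟩ := hmap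
    refine ⟨α, hα, φ₀, hφ₀, fun x hx => ?_⟩
    rw [← autFn_apply α hx]
    refine e.inj ((F.le_of_mem hφ).2 x) (hT (autFn_mem α hx)) ?_
    rw [← hαα' _ hx, hφ₀e x x.2, e.right _ (e.im_le hT (hT'.le (hf₀.mem (e.mem_im_of_mem x.2)))),
      ← hfe _ (e.mem_im_of_mem x.2), e.fn_apply _ (hPS x.2), toFn_coe]
  · intro α hα
    have hαmap : IsMap (e.pullSub hT hT' E') T (autFn α) := (mem_autGroup_iff le_rfl).1 hα
    obtain ⟨α', hα', hαα'⟩ := (e.exists_aut hT hT').1 α (autGroup_le_of_sub hsub le_rfl hα)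
    have hα'E : α' ∈ E'.autGroup T' := by
      refine (mem_autGroup_iff le_rfl).2 ?_
      have h1 := (e.isMap_pullSub_iff hT hT' E' le_rfl fun x hx => autFn_mem α hx).1 hαmap
      rw [← hT'] at h1
      refine h1.congr fun y hy => ?_
      obtain ⟨x, hx, rfl⟩ := (e.mem_im hT).1 (hT'.le hy)
      rw [e.fn_apply _ (hT hx), hαα' x hx]
    obtain ⟨β', hβ', hβT, hβC⟩ := hext α' hα'E
    have hC : centralizerIn S T ≤ S := inf_le_left
    have hU : T ⊔ centralizerIn S T ≤ S := sup_le hT hC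
    have hU' : T' ⊔ centralizerIn S' T' = e.im (T ⊔ centralizerIn S T) := by
      rw [e.im_sup hT hC, e.im_centralizerIn hT, ← hT']
    obtain ⟨β, hβ, hββ'⟩ := (e.exists_aut hU hU').2 β' hβ'
    refine ⟨β, hβ, fun x => ?_, fun c hc => ?_⟩
    · have hxU : (x : Ω) ∈ T ⊔ centralizerIn S T := Subgroup.mem_sup_left x.2
      have hy : e.toFun x ∈ T' := hT'.ge (e.mem_im_of_mem x.2)
      show ((β ⟨x, hxU⟩ : ↥(T ⊔ centralizerIn S T)) : Ω) = _
      rw [← autFn_apply β hxU, ← autFn_apply α x.2]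
      refine e.inj (hU (autFn_mem β hxU)) (hT (autFn_mem α x.2)) ?_
      rw [← hββ' _ hxU, ← hαα' _ x.2, autFn_apply β' (Subgroup.mem_sup_left hy), autFn_apply α' hy]
      exact hβT ⟨_, hy⟩
    · have hy : e.toFun c ∈ centralizerIn S' T' := by
        rw [hT', ← e.im_centralizerIn hT]; exact e.mem_im_of_mem hc
      have h1 : (e.toFun c)⁻¹ * autFn β' (e.toFun c) ∈ T' ⊓ Subgroup.centralizer (T' : Set Ω') := by
        rw [autFn_apply β' (Subgroup.mem_sup_right hy)]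
        exact hβC ⟨_, Subgroup.mem_sup_right hy⟩ hy
      have hcS : (c : Ω) ∈ S := hU c.2
      have hβS : autFn β (c : Ω) ∈ S := hU (autFn_mem β c.2)
      rw [hββ' _ c.2, ← e.map_inv hcS, ← e.mul _ (inv_mem hcS) _ hβS] at h1
      rw [← autFn_apply β c.2]
      have hzS : (c : Ω)⁻¹ * autFn β c ∈ S := mul_mem (inv_mem hcS) hβS
      have hzT : (c : Ω)⁻¹ * autFn β c ∈ T := (e.toFun_mem_im hT hzS).1 (hT' ▸ h1.1)
      refine ⟨hzT, Subgroup.mem_centralizer_iff.2 fun t ht => ?_⟩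
      refine e.inj (mul_mem (hT ht) hzS) (mul_mem hzS (hT ht)) ?_
      rw [e.mul _ (hT ht) _ hzS, e.mul _ hzS _ (hT ht)]
      exact Subgroup.mem_centralizer_iff.1 h1.2 _ (hT'.ge (e.mem_im_of_mem ht))

end Sub

/-- Simplicity is invariant under isomorphism. -/
theorem isSimple {p : ℕ} (e : FIso F F') (h : F.IsSimple p) : F'.IsSimple p := by
  obtain ⟨hF, hS, hs⟩ := h
  refine ⟨e.isSaturated hF, fun hS' => hS ?_, fun T' E' hE' => ?_⟩
  · refine le_bot_iff.1 fun x hx => ?_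
    have := Subgroup.mem_bot.1 (hS'.le (e.mem x hx))
    exact Subgroup.mem_bot.2 (e.inj hx S.one_mem (this.trans e.map_one.symm))
  have hT'S : T' ≤ S' := hE'.1.2.2.2.1.1
  have hT : e.symm.im T' ≤ S := e.symm.im_le hT'S
  have hT' : T' = e.im (e.symm.im T') := (e.im_symm_im hT'S).symm
  rcases hs _ _ (e.isNormalIn_pullSub hT hT' hF hE') with hb | ⟨htop, hhom⟩
  · left
    rw [hT', hb, e.im_bot]
  · refine Or.inr ⟨by rw [hT', htop, e.im_top], fun P' => ?_⟩
    refine Set.Subset.antisymm (hE'.1.2.2.1 P') fun φ' hφ' => ?_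
    refine mem_of_isMap (f := toFn φ') ?_ fun x => (toFn_coe φ' x).symm
    have hP' : P' ≤ S' := (F'.le_of_mem hφ').1
    obtain ⟨φ, hφ, hφe⟩ := e.symm.isMap_fn (isMap_toFn hφ')
    rw [← hhom] at hφ
    have h2 := (e.subIso hT hT' E').fwd _ (e.symm.fn (toFn φ')) ⟨φ, hφ, hφe⟩
    rw [show imT (e.subIso hT hT' E').toFun (e.symm.im P') = P' from e.im_symm_im hP'] at h2
    refine h2.congr fun y hy => ?_
    show e.toFun (e.invFun (toFn φ' (e.toFun (e.invFun y)))) = toFn φ' y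
    rw [e.right y (hP' hy), toFn_apply φ' hy, e.right _ ((F'.le_of_mem hφ').2 _)]

end FIso

end Cfsg.Agent.FusionIso
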