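import Cfsg.Prelude.Def_FusionComponents
import Cfsg.Agent.Lib.FusionIso.Simple
import Cfsg.Agent.Lib.FusionIso.Subgroup

/-
Transport of the centre, the hyperfocal subgroup, factor systems, quasisimplicity, subnormality and
components along isomorphisms of fusion systems.
Main results (namespace `Cfsg.Agent.FusionIso`): `FIso.isCentral`, `FIso.im_center`,
`FIso.im_hyperfocal`, `comapEquiv`, `comapIso`, `FIso.quasisimple`, `FIso.exists_subnormal`,
`FIso.exists_component`.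
-/

set_option autoImplicit false

namespace Cfsg.Agent.FusionIso

open Cfsg Cfsg.FusionSystem Cfsg.Agent.Fusion Cfsg.Agent.FusionNormal

/-- A fusion system moved along an isomorphism of the ambient groups. -/
noncomputable def comapEquiv {Ω Ω' : Type*} [Group Ω] [Group Ω'] (ψ : Ω ≃* Ω') {S : Subgroup Ω}
    {S' : Subgroup Ω'} (hS : ∀ x, x ∈ S ↔ ψ x ∈ S') (E : FusionSystem S') : FusionSystem S where
  Hom P := {φ | P ≤ S ∧ (∀ x : P, φ x ∈ S) ∧
    IsMap E (P.map ψ.toMonoidHom) (fun y => ψ (toFn φ (ψ.symm y)))}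
  le_of_mem h := ⟨h.1, h.2.1⟩
  injective_of_mem := by
    rintro P φ ⟨hP, hφ, hm⟩ a b hab
    have := hm.inj (x := ψ a) (y := ψ b) ⟨a, a.2, rfl⟩ ⟨b, b.2, rfl⟩ (by simp [hab])
    exact Subtype.ext (ψ.injective this)
  conj_mem := by
    intro P g hP hg
    refine ⟨hP, fun x => mul_mem (mul_mem hg (hP x.2)) (Subgroup.inv_mem _ hg), ?_⟩
    refine (IsMap.conj (s := ψ g) ?_ ((hS g).1 hg)).congr fun y hy => ?_
    · rintro _ ⟨x, hx, rfl⟩
      exact (hS x).1 (hP hx)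
    · obtain ⟨x, hx, rfl⟩ := hy
      simp [toFn_apply _ hx, conjHom]
  comp_mem := by
    rintro P Q φ χ ⟨hP, hφ, hm⟩ ⟨hQ, hχ, hn⟩ h
    refine ⟨hP, fun x => hχ _, (hm.comp hn fun y hy => ?_).congr fun y hy => ?_⟩
    · obtain ⟨x, hx, rfl⟩ := hy
      simp only [MulEquiv.toMonoidHom_eq_coe, MonoidHom.coe_coe, MulEquiv.symm_apply_apply,
        toFn_apply φ hx]
      exact ⟨_, h ⟨x, hx⟩, rfl⟩
    · obtain ⟨x, hx, rfl⟩ := hy
      simp only [MulEquiv.toMonoidHom_eq_coe, MonoidHom.coe_coe, MulEquiv.symm_apply_apply,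
        toFn_apply φ hx, toFn_apply χ (h ⟨x, hx⟩), toFn_apply _ hx]
      rfl
  inv_mem := by
    rintro P φ ⟨hP, hφ, hm⟩
    have hinj : Function.Injective φ := fun a b hab => Subtype.ext (ψ.injective
      (hm.inj (x := ψ a) (y := ψ b) ⟨a, a.2, rfl⟩ ⟨b, b.2, rfl⟩ (by simp [hab])))
    set eφ : P ≃* φ.range := MonoidHom.ofInjective hinj
    obtain ⟨g, hg, hg1, -⟩ := hm.isIso.symm
    refine ⟨P.subtype.comp eφ.symm.toMonoidHom, ⟨?_, fun y => hP (eφ.symm y).2, ?_⟩, fun x => ?_⟩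
    · rintro _ ⟨x, rfl⟩
      exact hφ x
    · have himg : φ.range.map ψ.toMonoidHom =
          img (fun y => ψ (toFn φ (ψ.symm y))) (P.map ψ.toMonoidHom) := by
        refine le_antisymm ?_ (hm.img_le le_rfl ?_)
        · rintro _ ⟨_, ⟨x, rfl⟩, rfl⟩
          exact Subgroup.subset_closure ⟨ψ x, ⟨x, x.2, rfl⟩, by simp⟩
        · rintro _ ⟨x, hx, rfl⟩
          exact ⟨φ ⟨x, hx⟩, ⟨_, rfl⟩, by simp [toFn_apply φ hx]⟩
      rw [himg]
      refine hg.1.congr fun z hz => ?_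
      obtain ⟨_, ⟨x, hx, rfl⟩, rfl⟩ := (hm.mem_img_iff le_rfl).1 hz
      rw [hg1 _ ⟨x, hx, rfl⟩]
      simp only [MulEquiv.toMonoidHom_eq_coe, MonoidHom.coe_coe, MulEquiv.symm_apply_apply]
      rw [toFn_apply _ (MonoidHom.mem_range.2 ⟨⟨x, hx⟩, (toFn_apply φ hx).symm⟩)]
      have h2 : eφ.symm ⟨toFn φ x, MonoidHom.mem_range.2 ⟨⟨x, hx⟩, (toFn_apply φ hx).symm⟩⟩ = ⟨x, hx⟩ :=
        (congrArg eφ.symm (Subtype.ext (toFn_apply φ hx))).trans (eφ.symm_apply_apply ⟨x, hx⟩)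
      exact (congrArg (fun u : P => ψ u) h2).symm
    · exact congrArg Subtype.val (eφ.symm_apply_apply x)

theorem imT_equiv {Ω Ω' : Type*} [Group Ω] [Group Ω'] (ψ : Ω ≃* Ω') (P : Subgroup Ω) :
    imT ψ P = P.map ψ.toMonoidHom :=
  le_antisymm ((Subgroup.closure_le _).2 fun _ ⟨x, hx, e⟩ => ⟨x, hx, e⟩)
    fun _ ⟨x, hx, e⟩ => Subgroup.subset_closure ⟨x, hx, e⟩

/-- The moved system is isomorphic to the original one. -/
noncomputable def comapIso {Ω Ω' : Type*} [Group Ω] [Group Ω'] (ψ : Ω ≃* Ω') {S : Subgroup Ω}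
    {S' : Subgroup Ω'} (hS : ∀ x, x ∈ S ↔ ψ x ∈ S') (E : FusionSystem S') :
    FIso (comapEquiv ψ hS E) E where
  toFun := ψ
  invFun := ψ.symm
  mem x hx := (hS x).1 hx
  mem' y hy := (hS _).2 (by simpa using hy)
  left x _ := ψ.symm_apply_apply x
  right y _ := ψ.apply_symm_apply y
  mul x _ y _ := map_mul ψ x y
  fwd P f hf := by
    obtain ⟨φ, ⟨hP, hφ, hm⟩, he⟩ := hf
    rw [imT_equiv]
    refine hm.congr fun y hy => ?_
    obtain ⟨x, hx, rfl⟩ := hy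
    simp only [MulEquiv.toMonoidHom_eq_coe, MonoidHom.coe_coe, MulEquiv.symm_apply_apply,
      toFn_apply φ hx, he x hx]
  bwd P' f' hf' := by
    rw [imT_equiv]
    set P := P'.map ψ.symm.toMonoidHom with hP
    have hmem : ∀ x ∈ P, ψ x ∈ P' := by
      rintro _ ⟨y, hy, rfl⟩
      simpa using hy
    have hmul : ∀ a b : P, ψ.symm (f' (ψ ((a * b : P) : Ω))) =
        ψ.symm (f' (ψ a)) * ψ.symm (f' (ψ b)) := fun a b => by
      rw [Subgroup.coe_mul, map_mul, hf'.map_mul (hmem a a.2) (hmem b b.2), map_mul]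
    refine ⟨MonoidHom.mk' (fun x : P => ψ.symm (f' (ψ x))) hmul,
      ⟨fun x hx => (hS x).2 (hf'.le (hmem x hx)),
        fun x => (hS _).2 (by simpa using hf'.mem (hmem x x.2)), ?_⟩, fun x hx => rfl⟩
    have hPP : P.map ψ.toMonoidHom = P' := by
      refine le_antisymm ?_ fun y hy => ⟨ψ.symm y, ⟨y, hy, rfl⟩, ψ.apply_symm_apply y⟩
      rintro _ ⟨x, hx, rfl⟩
      exact hmem x hx
    rw [hPP]
    refine hf'.congr fun y hy => ?_
    rw [toFn_apply _ (show ψ.symm y ∈ P from ⟨y, hy, rfl⟩)]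
    simp

namespace FIso

variable {Ω Ω' : Type*} [Group Ω] [Group Ω'] {S : Subgroup Ω} {S' : Subgroup Ω'}
  {F : FusionSystem S} {F' : FusionSystem S'} (e : FIso F F')

theorem isCentral {Q : Subgroup Ω} (h : F.IsCentral Q) : F'.IsCentral (e.im Q) := by
  refine ⟨e.im_le h.1, fun P' φ' hφ' => ?_⟩
  have hP' := (F'.le_of_mem hφ').1
  obtain ⟨φ, hφ, he⟩ := e.symm.isMap_fn (isMap_toFn hφ')
  obtain ⟨ψ, hψ, hψP, hψQ⟩ := h.2 _ φ hφ
  have hm := e.isMap_fn (isMap_toFn hψ)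
  rw [e.im_sup (e.symm.im_le hP') h.1, e.im_symm_im hP'] at hm
  obtain ⟨ψ', hψ', he'⟩ := hm
  have hval : ∀ z (hz : z ∈ e.symm.im P' ⊔ Q) (hz' : e.toFun z ∈ P' ⊔ e.im Q),
      ψ' ⟨e.toFun z, hz'⟩ = e.toFun (ψ ⟨z, hz⟩) := by
    intro z hz hz'
    rw [he' _ hz', e.fn_apply _ ((sup_le (e.symm.im_le hP') h.1) hz), toFn_apply ψ hz]
  refine ⟨ψ', hψ', fun x => ?_, fun y => ?_⟩
  · have hx : e.invFun x ∈ e.symm.im P' := e.symm.mem_im_of_mem x.2
    have hx' : e.toFun (e.invFun (x : Ω')) ∈ P' ⊔ e.im Q := by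
      rw [e.right _ (hP' x.2)]; exact Subgroup.mem_sup_left x.2
    refine ((congrArg ψ' (Subtype.ext (e.right _ (hP' x.2)).symm)).trans
      (hval _ (Subgroup.mem_sup_left hx) hx')).trans ?_
    rw [show ψ ⟨e.invFun x, Subgroup.mem_sup_left hx⟩ = φ ⟨_, hx⟩ from hψP ⟨_, hx⟩, he _ hx]
    show e.toFun (e.invFun (toFn φ' (e.toFun (e.invFun (x : Ω'))))) = φ' x
    rw [e.right _ (hP' x.2), toFn_coe φ' x, e.right _ ((F'.le_of_mem hφ').2 x)]
  · obtain ⟨y, hy⟩ := y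
    obtain ⟨q, hq, rfl⟩ := (e.mem_im h.1).1 hy
    exact (hval q (Subgroup.mem_sup_right hq) _).trans (congrArg e.toFun (hψQ ⟨q, hq⟩))

theorem center_le_symm_im : F.center ≤ e.symm.im F'.center := by
  refine sSup_le fun Q hQ => ?_
  rw [← e.symm_im_im hQ.1]
  exact e.symm.im_mono (le_sSup (e.isCentral hQ))

theorem im_center : e.im F.center = F'.center := by
  have hc' : F'.center ≤ S' := sSup_le fun _ h => h.1
  exact le_antisymm ((e.im_mono e.center_le_symm_im).trans (e.im_symm_im hc').le)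
    e.symm.center_le_symm_im

theorem im_hyperfocal (p : ℕ) : e.im (F.hyperfocalSubgroup p) ≤ F'.hyperfocalSubgroup p := by
  have hle' : F'.hyperfocalSubgroup p ≤ S' := (Subgroup.closure_le _).2 (by
    rintro _ ⟨P, α, x, hP, -, rfl⟩
    exact S'.mul_mem (S'.inv_mem (hP x.2)) (hP (Subtype.prop _)))
  suffices h : F.hyperfocalSubgroup p ≤ e.symm.im (F'.hyperfocalSubgroup p) from
    (e.im_mono h).trans (e.im_symm_im hle').le
  refine (Subgroup.closure_le _).2 ?_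
  rintro _ ⟨P, α, x, hP, hα, rfl⟩
  let ψ : F.autGroup P →* F'.autGroup (e.im P) :=
    (((MulAut.congr (e.equivIm hP)).toMonoidHom.comp (F.autGroup P).subtype).codRestrict _
      fun β => (e.congr_mem_autGroup_iff hP).2 β.2)
  have hψ : ψ α ∈ Cfsg.pResidual p (F'.autGroup (e.im P)) := by
    have : Cfsg.pResidual p (F.autGroup P) ≤
        (Cfsg.pResidual p (F'.autGroup (e.im P))).comap ψ := by
      refine (Subgroup.closure_le _).2 fun β hβ => Subgroup.subset_closure ?_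
      have hinj : Function.Injective ψ := fun a b hab =>
        Subtype.ext ((MulAut.congr (e.equivIm hP)).injective (congrArg Subtype.val hab))
      show (orderOf (ψ β)).Coprime p
      rwa [orderOf_injective ψ hinj]
    exact this hα
  have hy : ((x : Ω))⁻¹ * ((α : MulAut P) x : P) ∈ S :=
    S.mul_mem (S.inv_mem (hP x.2)) (hP (Subtype.prop _))
  refine (e.symm.mem_im hle').2 ⟨_, Subgroup.subset_closure
    ⟨e.im P, ψ α, e.equivIm hP x, e.im_le hP, hψ, rfl⟩, ?_⟩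
  show e.invFun ((e.toFun x)⁻¹ *
    ((MulAut.congr (e.equivIm hP) (α : MulAut P) ⟨e.toFun x, _⟩ : e.im P) : Ω')) = _
  rw [e.equivIm_congr_apply hP _ x.2, ← e.map_inv (hP x.2),
    ← e.mul _ (S.inv_mem (hP x.2)) _ (hP (Subtype.prop _)), e.left _ hy]

theorem quasisimple {p : ℕ} (e : FIso F F') (h : F.Quasisimple p) : F'.Quasisimple p := by
  obtain ⟨hsat, hhyp, hfac⟩ := h
  refine ⟨e.isSaturated hsat, ?_, fun E' hE' => ?_⟩
  · refine le_antisymm ((Subgroup.closure_le _).2 ?_) ?_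
    · rintro _ ⟨P, α, x, hP, -, rfl⟩
      exact S'.mul_mem (S'.inv_mem (hP x.2)) (hP (Subtype.prop _))
    · have := e.im_hyperfocal p
      rwa [hhyp, e.im_top] at this
  have hcS : F.center ≤ S := sSup_le fun _ h => h.1
  let eS : S ≃* S' :=
    { toFun := fun x => ⟨e.toFun x, e.mem x x.2⟩
      invFun := fun y => ⟨e.invFun y, e.mem' y y.2⟩
      left_inv := fun x => Subtype.ext (e.left x x.2)
      right_inv := fun y => Subtype.ext (e.right y y.2)
      map_mul' := fun a b => Subtype.ext (e.mul a a.2 b b.2) }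
  have hmap : (F.center.subgroupOf S).map eS.toMonoidHom = F'.center.subgroupOf S' := by
    ext y
    constructor
    · rintro ⟨x, hx, rfl⟩
      exact Subgroup.mem_subgroupOf.2 (e.im_center ▸ e.mem_im_of_mem (Subgroup.mem_subgroupOf.1 hx))
    · intro hy
      have hy' : (y : Ω') ∈ e.im F.center := e.im_center.symm ▸ Subgroup.mem_subgroupOf.1 hy
      exact ⟨eS.symm y, Subgroup.mem_subgroupOf.2 (e.invFun_mem hcS hy'), eS.apply_symm_apply y⟩
  set ψ := QuotientGroup.congr _ _ eS hmap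
  set θ := QuotientGroup.mk' (F.center.subgroupOf S)
  set θ' := QuotientGroup.mk' (F'.center.subgroupOf S')
  have hψ : ∀ x : S, ψ (θ x) = θ' (eS x) := fun x => QuotientGroup.congr_mk _ _ eS hmap x
  have hT : ∀ x : S ⧸ F.center.subgroupOf S,
      x ∈ (⊤ : Subgroup _) ↔ ψ x ∈ (⊤ : Subgroup _) := fun x => by simp
  suffices hE : F.IsFactorSystem F.center θ (comapEquiv ψ hT E') from
    (comapIso ψ hT E').isSimple (hfac _ hE)
  obtain ⟨-, -, -, hhom⟩ := hE'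
  have hpl : ∀ P, preimageAlong θ P ≤ S := fun P => Subgroup.map_subtype_le _
  have hpre : ∀ P : Subgroup (S ⧸ F.center.subgroupOf S),
      e.im (preimageAlong θ P) = preimageAlong θ' (P.map ψ.toMonoidHom) := by
    intro P
    ext y
    rw [e.mem_im (hpl P)]
    constructor
    · rintro ⟨_, ⟨x, hx, rfl⟩, rfl⟩
      exact ⟨eS x, ⟨θ x, hx, hψ x⟩, rfl⟩
    · rintro ⟨y', ⟨z, hz, hzy⟩, rfl⟩
      refine ⟨(eS.symm y' : S), ⟨eS.symm y', ?_, rfl⟩, e.right _ y'.2⟩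
      show θ (eS.symm y') ∈ P
      have : ψ (θ (eS.symm y')) = ψ z := by
        rw [hψ, eS.apply_symm_apply]
        exact hzy.symm
      rwa [ψ.injective this]
  refine ⟨hcS, fun s => (QuotientGroup.eq_one_iff s).trans Subgroup.mem_subgroupOf,
    QuotientGroup.range_mk' _, fun P φ' => ⟨?_, ?_⟩⟩
  · rintro ⟨hP, -, hm⟩
    obtain ⟨χ, hχ, he⟩ := hm
    obtain ⟨-, χ₀, hχ₀, hS₀, hχS, hmem, hind⟩ := (hhom _ _).1 hχ
    have hmap₀ : IsMap F' (e.im (preimageAlong θ P)) (toFn χ₀) := by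
      rw [hpre]; exact isMap_toFn hχ₀
    have hm2 := e.symm.isMap_fn hmap₀
    rw [e.symm_im_im (hpl P)] at hm2
    obtain ⟨φ, hφ, hφe⟩ := hm2
    have hPS : preimageAlong θ P ≤ S := Subgroup.map_subtype_le _
    have hθP : ∀ x : preimageAlong θ P, θ ⟨x, hPS x.2⟩ ∈ P := by
      rintro ⟨_, s, hs, rfl⟩
      exact hs
    refine ⟨hP, φ, hφ, hPS, (F.le_of_mem hφ).2, hθP, fun x => ?_⟩
    have hy : e.toFun x ∈ preimageAlong θ' (P.map ψ.toMonoidHom) := hpre P ▸ e.mem_im_of_mem x.2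
    have h1 := hind ⟨_, hy⟩
    rw [he _ (hmem ⟨_, hy⟩)] at h1
    have hx' : ψ.symm (θ' ⟨e.toFun x, hS₀ hy⟩) = θ ⟨x, hPS x.2⟩ := by
      rw [ψ.symm_apply_eq, hψ]
      rfl
    simp only [hx', toFn_apply φ' (hθP x)] at h1
    refine ψ.injective (h1.trans ?_)
    rw [hψ]
    refine congrArg θ' (Subtype.ext ?_)
    show χ₀ ⟨_, hy⟩ = e.toFun (φ x)
    rw [hφe x x.2]
    show _ = e.toFun (e.invFun (toFn χ₀ (e.toFun x)))
    rw [toFn_apply χ₀ hy, e.right _ (hχS _)]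
  · rintro ⟨hP, φ, hφ, hPS, hφS, hθP, hind⟩
    refine ⟨hP, fun _ => Subgroup.mem_top _, ?_⟩
    obtain ⟨χ₀, hχ₀, hχ₀e⟩ : IsMap F' (preimageAlong θ' (P.map ψ.toMonoidHom)) (e.fn (toFn φ)) :=
      hpre P ▸ e.isMap_fn (isMap_toFn hφ)
    have hmul : ∀ a b : P.map ψ.toMonoidHom,
        ψ (toFn φ' (ψ.symm ((a * b : _) : _))) =
          ψ (toFn φ' (ψ.symm a)) * ψ (toFn φ' (ψ.symm b)) := by
      have hm : ∀ a : P.map ψ.toMonoidHom, ψ.symm (a : _) ∈ P := by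
        rintro ⟨_, z, hz, rfl⟩
        simpa using hz
      intro a b
      have hab : ψ.symm ((a * b : P.map ψ.toMonoidHom) : _) = ψ.symm a * ψ.symm b := map_mul ψ.symm _ _
      rw [toFn_apply φ' (hm (a * b)), toFn_apply φ' (hm a), toFn_apply φ' (hm b), ← map_mul ψ,
        ← map_mul φ']
      exact congrArg (fun z => ψ (φ' z)) (Subtype.ext hab)
    refine ⟨MonoidHom.mk' (fun a : P.map ψ.toMonoidHom => ψ (toFn φ' (ψ.symm a))) hmul, (hhom _ _).2 ⟨le_top, χ₀, hχ₀, Subgroup.map_subtype_le _,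
      (F'.le_of_mem hχ₀).2, ?_, fun y => ?_⟩, fun x _ => rfl⟩
    · rintro ⟨_, s, hs, rfl⟩
      exact hs
    · obtain ⟨x, hx, hxy⟩ := (e.mem_im hPS).1 ((hpre P).ge y.2)
      show ψ (toFn φ' (ψ.symm (θ' ⟨(y : Ω'), _⟩))) = θ' ⟨χ₀ y, _⟩
      have hy' : ψ.symm (θ' ⟨(y : Ω'), Subgroup.map_subtype_le _ y.2⟩) = θ ⟨x, hPS hx⟩ := by
        rw [ψ.symm_apply_eq, hψ]
        exact congrArg θ' (Subtype.ext hxy.symm)
      rw [hy', toFn_apply φ' (hθP ⟨x, hx⟩), hind ⟨x, hx⟩, hψ]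
      refine congrArg θ' (Subtype.ext ?_)
      show e.toFun (φ ⟨x, hx⟩) = χ₀ y
      rw [hχ₀e y y.2, ← hxy, e.fn_apply _ (hPS hx), toFn_apply φ hx]

end FIso

/-- Subnormal subsystems correspond. -/
theorem exists_subnormal {Ω Ω' : Type*} [Group Ω] [Group Ω'] {T : Subgroup Ω} {E : FusionSystem T}
    {S : Subgroup Ω} {F : FusionSystem S} {p : ℕ} (hE : E.IsSubnormalIn F p) :
    ∀ {S' : Subgroup Ω'} {F' : FusionSystem S'} (e : FIso F F'), F'.IsSaturated p →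
      ∃ (T' : Subgroup Ω') (E' : FusionSystem T') (g : FIso E E'),
        g.toFun = e.toFun ∧ g.invFun = e.invFun ∧ E'.IsSubnormalIn F' p := by
  induction hE with
  | refl => exact fun e _ => ⟨_, _, e, rfl, rfl, .refl _ _⟩
  | step hsub hn ih =>
    intro S' F' e hF'
    have hU := hn.1.2.2.2.1.1
    have hT : e.im _ ≤ S' := e.im_le hU
    have hn' := e.symm.isNormalIn_pullSub hT (e.symm_im_im hU).symm hF' hn
    obtain ⟨T', E', g, h1, h2, h3⟩ :=
      ih (e.symm.subIso hT (e.symm_im_im hU).symm _).symm hn'.1.1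
    exact ⟨T', E', g, h1, h2, .step h3 hn'⟩

/-- Components correspond. -/
theorem exists_component {Ω Ω' : Type*} [Group Ω] [Group Ω'] {T : Subgroup Ω} {C : FusionSystem T}
    {S : Subgroup Ω} {F : FusionSystem S} {p : ℕ} (hC : C.IsComponentIn F p) {S' : Subgroup Ω'}
    {F' : FusionSystem S'} (e : FIso F F') (hF' : F'.IsSaturated p) :
    ∃ (T' : Subgroup Ω') (C' : FusionSystem T') (g : FIso C C'),
      g.toFun = e.toFun ∧ g.invFun = e.invFun ∧ C'.IsComponentIn F' p := by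
  obtain ⟨T', C', g, h1, h2, h3⟩ := exists_subnormal hC.1 e hF'
  exact ⟨T', C', g, h1, h2, h3, g.quasisimple hC.2⟩

end Cfsg.Agent.FusionIso
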