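import Cfsg.Agent.Lib.Fusion.Saturation

/-
Isomorphisms of fusion systems living in possibly different ambient groups, given by functions that
are mutually inverse on `S` and `S'`.
Main results (namespace `Cfsg.Agent.FusionIso`): `FIso`, `FIso.symm`, `FIso.im`, `FIso.isMap_iff`,
`FIso.isConj_iff`, `FIso.im_normalizerIn`, `FIso.im_centralizerIn`, `FIso.isFullyNormalized`,
`FIso.isFullyAutomized`, `FIso.isReceptive`, `FIso.isSaturated`, `FIso.isCentric`,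
`FIso.isNormal`, `FIso.stronglyClosed`, `FIso.isConstrained`.
-/

set_option autoImplicit false

namespace Cfsg.Agent.FusionIso

open Cfsg Cfsg.FusionSystem Cfsg.Agent.Fusion

section Image

variable {Ω Ω' : Type*} [Group Ω] [Group Ω']

/-- The subgroup generated by the image of `P` under a function. -/
def imT (e : Ω → Ω') (P : Subgroup Ω) : Subgroup Ω' := Subgroup.closure (e '' (P : Set Ω))

theorem mem_imT {e : Ω → Ω'} {P : Subgroup Ω}
    (hmul : ∀ x ∈ P, ∀ y ∈ P, e (x * y) = e x * e y) {y : Ω'} :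
    y ∈ imT e P ↔ ∃ x ∈ P, e x = y := by
  let φ : P →* Ω' := MonoidHom.mk' (fun x => e x) fun a b => hmul a a.2 b b.2
  have h : imT e P ≤ φ.range := by
    rw [imT, Subgroup.closure_le]
    rintro _ ⟨x, hx, rfl⟩
    exact ⟨⟨x, hx⟩, rfl⟩
  exact ⟨fun hy => let ⟨x, hx⟩ := h hy; ⟨x, x.2, hx⟩,
    fun ⟨x, hx, e'⟩ => Subgroup.subset_closure ⟨x, hx, e'⟩⟩

theorem mem_normalizerIn_iff {S P : Subgroup Ω} {g : Ω} :
    g ∈ normalizerIn S P ↔ g ∈ S ∧ (∀ x ∈ P, g * x * g⁻¹ ∈ P) ∧ ∀ x ∈ P, g⁻¹ * x * g ∈ P := by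
  constructor
  · intro h
    refine ⟨h.1, fun x hx => normalizerIn_conj h hx, fun x hx => ?_⟩
    simpa using normalizerIn_conj ((normalizerIn S P).inv_mem h) hx
  · rintro ⟨h, h1, h2⟩
    refine mem_normalizerIn.2 ⟨h, fun x => ⟨h1 x, fun hx => ?_⟩⟩
    simpa [mul_assoc] using h2 _ hx

end Image

/-- An isomorphism between fusion systems, as a pair of functions inverse to each other on `S`, `S'`. -/
structure FIso {Ω Ω' : Type*} [Group Ω] [Group Ω'] {S : Subgroup Ω} {S' : Subgroup Ω'}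
    (F : FusionSystem S) (F' : FusionSystem S') where
  toFun : Ω → Ω'
  invFun : Ω' → Ω
  mem : ∀ x ∈ S, toFun x ∈ S'
  mem' : ∀ y ∈ S', invFun y ∈ S
  left : ∀ x ∈ S, invFun (toFun x) = x
  right : ∀ y ∈ S', toFun (invFun y) = y
  mul : ∀ x ∈ S, ∀ y ∈ S, toFun (x * y) = toFun x * toFun y
  fwd : ∀ (P : Subgroup Ω) (f : Ω → Ω), IsMap F P f →
    IsMap F' (imT toFun P) fun y => toFun (f (invFun y))
  bwd : ∀ (P' : Subgroup Ω') (f' : Ω' → Ω'), IsMap F' P' f' →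
    IsMap F (imT invFun P') fun x => invFun (f' (toFun x))

namespace FIso

variable {Ω Ω' : Type*} [Group Ω] [Group Ω'] {S : Subgroup Ω} {S' : Subgroup Ω'}
  {F : FusionSystem S} {F' : FusionSystem S'} (e : FIso F F')

theorem mul' {x y : Ω'} (hx : x ∈ S') (hy : y ∈ S') : e.invFun (x * y) = e.invFun x * e.invFun y := by
  conv_lhs => rw [← e.right x hx, ← e.right y hy, ← e.mul _ (e.mem' x hx) _ (e.mem' y hy)]
  exact e.left _ (mul_mem (e.mem' x hx) (e.mem' y hy))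

/-- The inverse isomorphism. -/
def symm : FIso F' F where
  toFun := e.invFun
  invFun := e.toFun
  mem := e.mem'
  mem' := e.mem
  left := e.right
  right := e.left
  mul := fun _ hx _ hy => e.mul' hx hy
  fwd := e.bwd
  bwd := e.fwd

theorem inj {x y : Ω} (hx : x ∈ S) (hy : y ∈ S) (h : e.toFun x = e.toFun y) : x = y := by
  rw [← e.left x hx, h, e.left y hy]

theorem map_one : e.toFun 1 = 1 := by
  have h := e.mul 1 S.one_mem 1 S.one_mem
  rw [mul_one] at h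
  exact left_eq_mul.1 h

theorem map_inv {x : Ω} (hx : x ∈ S) : e.toFun x⁻¹ = (e.toFun x)⁻¹ := by
  refine eq_inv_of_mul_eq_one_left ?_
  rw [← e.mul _ (inv_mem hx) _ hx, inv_mul_cancel, e.map_one]

theorem map_conj {g x : Ω} (hg : g ∈ S) (hx : x ∈ S) :
    e.toFun (g * x * g⁻¹) = e.toFun g * e.toFun x * (e.toFun g)⁻¹ := by
  rw [e.mul _ (mul_mem hg hx) _ (inv_mem hg), e.mul _ hg _ hx, e.map_inv hg]

theorem map_conj' {g x : Ω} (hg : g ∈ S) (hx : x ∈ S) :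
    e.toFun (g⁻¹ * x * g) = (e.toFun g)⁻¹ * e.toFun x * e.toFun g := by
  rw [e.mul _ (mul_mem (inv_mem hg) hx) _ hg, e.mul _ (inv_mem hg) _ hx, e.map_inv hg]

/-- The image of a subgroup. -/
def im (P : Subgroup Ω) : Subgroup Ω' := imT e.toFun P

theorem mem_im {P : Subgroup Ω} (hP : P ≤ S) {y : Ω'} : y ∈ e.im P ↔ ∃ x ∈ P, e.toFun x = y :=
  mem_imT fun x hx y hy => e.mul x (hP hx) y (hP hy)

theorem mem_im_of_mem {P : Subgroup Ω} {x : Ω} (hx : x ∈ P) : e.toFun x ∈ e.im P :=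
  Subgroup.subset_closure ⟨x, hx, rfl⟩

theorem im_le {P : Subgroup Ω} (hP : P ≤ S) : e.im P ≤ S' := fun y hy => by
  obtain ⟨x, hx, rfl⟩ := (e.mem_im hP).1 hy
  exact e.mem x (hP hx)

theorem toFun_mem_im {P : Subgroup Ω} (hP : P ≤ S) {x : Ω} (hx : x ∈ S) :
    e.toFun x ∈ e.im P ↔ x ∈ P := by
  refine ⟨fun h => ?_, e.mem_im_of_mem⟩
  obtain ⟨z, hz, h⟩ := (e.mem_im hP).1 h
  exact e.inj (hP hz) hx h ▸ hz

theorem invFun_mem {P : Subgroup Ω} (hP : P ≤ S) {y : Ω'} (hy : y ∈ e.im P) : e.invFun y ∈ P := by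
  obtain ⟨x, hx, rfl⟩ := (e.mem_im hP).1 hy
  rwa [e.left x (hP hx)]

theorem symm_im_im {P : Subgroup Ω} (hP : P ≤ S) : e.symm.im (e.im P) = P := by
  refine le_antisymm (fun x hx => ?_) fun x hx => ?_
  · obtain ⟨y, hy, rfl⟩ := (e.symm.mem_im (e.im_le hP)).1 hx
    exact e.invFun_mem hP hy
  · exact (e.symm.mem_im (e.im_le hP)).2 ⟨e.toFun x, e.mem_im_of_mem hx, e.left x (hP hx)⟩

theorem im_symm_im {P' : Subgroup Ω'} (hP : P' ≤ S') : e.im (e.symm.im P') = P' :=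
  e.symm.symm_im_im hP

theorem im_mono {P Q : Subgroup Ω} (h : P ≤ Q) : e.im P ≤ e.im Q :=
  Subgroup.closure_mono (Set.image_mono h)

theorem im_le_im_iff {P Q : Subgroup Ω} (hP : P ≤ S) (hQ : Q ≤ S) : e.im P ≤ e.im Q ↔ P ≤ Q :=
  ⟨fun h _ hx => (e.toFun_mem_im hQ (hP hx)).1 (h (e.mem_im_of_mem hx)), e.im_mono⟩

theorem card_im {P : Subgroup Ω} (hP : P ≤ S) : Nat.card (e.im P) = Nat.card P := by
  refine Nat.card_congr ⟨fun y => ⟨_, e.invFun_mem hP y.2⟩, fun x => ⟨_, e.mem_im_of_mem x.2⟩,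
    fun y => Subtype.ext ?_, fun x => Subtype.ext (e.left x (hP x.2))⟩
  exact e.right _ (e.im_le hP y.2)

theorem im_top : e.im S = S' :=
  le_antisymm (e.im_le le_rfl) fun y hy => (e.mem_im le_rfl).2 ⟨_, e.mem' y hy, e.right y hy⟩

theorem finite (e : FIso F F') [Finite S] : Finite S' :=
  Finite.of_injective (fun y : S' => (⟨e.invFun y, e.mem' y y.2⟩ : S)) fun _ _ h =>
    Subtype.ext (e.symm.inj (Subtype.prop _) (Subtype.prop _) (congrArg Subtype.val h))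

theorem isPGroup (e : FIso F F') {p : ℕ} (h : IsPGroup p S) : IsPGroup p S' :=
  h.of_injective (MonoidHom.mk' (fun y : S' => (⟨e.invFun y, e.mem' y y.2⟩ : S))
      fun a b => Subtype.ext (e.mul' a.2 b.2)) fun _ _ h =>
    Subtype.ext (e.symm.inj (Subtype.prop _) (Subtype.prop _) (congrArg Subtype.val h))

/-- The function on `Ω'` corresponding to `f`. -/
def fn (f : Ω → Ω) : Ω' → Ω' := fun y => e.toFun (f (e.invFun y))

theorem fn_apply (f : Ω → Ω) {x : Ω} (hx : x ∈ S) : e.fn f (e.toFun x) = e.toFun (f x) := by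
  simp only [fn, e.left x hx]

theorem isMap_fn {P : Subgroup Ω} {f : Ω → Ω} (h : IsMap F P f) : IsMap F' (e.im P) (e.fn f) :=
  e.fwd P f h

theorem isMap_iff {P : Subgroup Ω} (hP : P ≤ S) {f : Ω → Ω} (hf : ∀ x ∈ P, f x ∈ S) :
    IsMap F' (e.im P) (e.fn f) ↔ IsMap F P f := by
  refine ⟨fun h => ?_, e.isMap_fn⟩
  have h1 : IsMap F (e.symm.im (e.im P)) (e.symm.fn (e.fn f)) := e.symm.isMap_fn h
  rw [e.symm_im_im hP] at h1
  refine h1.congr fun x hx => ?_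
  show e.invFun (e.toFun (f (e.invFun (e.toFun x)))) = f x
  rw [e.left x (hP hx), e.left _ (hf x hx)]

theorem isIso_fn {P Q : Subgroup Ω} {f : Ω → Ω} (h : IsIso F P Q f) :
    IsIso F' (e.im P) (e.im Q) (e.fn f) := by
  refine ⟨e.isMap_fn h.1, IsIso.img_eq_of (e.isMap_fn h.1) le_rfl (fun y hy => ?_) fun z hz => ?_⟩
  · obtain ⟨x, hx, rfl⟩ := (e.mem_im h.le_left).1 hy
    rw [e.fn_apply f (h.le_left hx)]
    exact e.mem_im_of_mem (h.mem hx)
  · obtain ⟨q, hq, rfl⟩ := (e.mem_im h.le_right).1 hz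
    obtain ⟨x, hx, rfl⟩ := h.exists_eq hq
    exact ⟨_, e.mem_im_of_mem hx, e.fn_apply f (h.le_left hx)⟩

theorem isConj {P Q : Subgroup Ω} (h : F.IsConj P Q) : F'.IsConj (e.im P) (e.im Q) := by
  obtain ⟨f, hf⟩ := Fusion.isConj_iff.1 h
  exact Fusion.isConj_iff.2 ⟨_, e.isIso_fn hf⟩

theorem exists_isConj {P : Subgroup Ω} {Q' : Subgroup Ω'} (hP : P ≤ S)
    (h : F'.IsConj (e.im P) Q') : ∃ Q, Q ≤ S ∧ F.IsConj P Q ∧ e.im Q = Q' := by
  have hQ := (isConj_le h).2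
  refine ⟨e.symm.im Q', e.symm.im_le hQ, ?_, e.im_symm_im hQ⟩
  simpa [e.symm_im_im hP] using e.symm.isConj h

theorem im_normalizerIn {P : Subgroup Ω} (hP : P ≤ S) :
    e.im (normalizerIn S P) = normalizerIn S' (e.im P) := by
  refine le_antisymm (fun y hy => ?_) fun y hy => ?_
  · obtain ⟨g, hg, rfl⟩ := (e.mem_im inf_le_left).1 hy
    obtain ⟨hgS, h1, h2⟩ := mem_normalizerIn_iff.1 hg
    refine mem_normalizerIn_iff.2 ⟨e.mem g hgS, fun z hz => ?_, fun z hz => ?_⟩ <;>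
      obtain ⟨x, hx, rfl⟩ := (e.mem_im hP).1 hz
    · rw [← e.map_conj hgS (hP hx)]; exact e.mem_im_of_mem (h1 x hx)
    · rw [← e.map_conj' hgS (hP hx)]; exact e.mem_im_of_mem (h2 x hx)
  · obtain ⟨hyS, h1, h2⟩ := mem_normalizerIn_iff.1 hy
    refine (e.mem_im inf_le_left).2 ⟨e.invFun y, mem_normalizerIn_iff.2
      ⟨e.mem' y hyS, fun x hx => ?_, fun x hx => ?_⟩, e.right y hyS⟩
    all_goals have hgS := e.mem' y hyS
    · rw [← e.toFun_mem_im hP (mul_mem (mul_mem hgS (hP hx)) (inv_mem hgS)),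
        e.map_conj hgS (hP hx), e.right y hyS]
      exact h1 _ (e.mem_im_of_mem hx)
    · rw [← e.toFun_mem_im hP (mul_mem (mul_mem (inv_mem hgS) (hP hx)) hgS),
        e.map_conj' hgS (hP hx), e.right y hyS]
      exact h2 _ (e.mem_im_of_mem hx)

theorem im_centralizerIn {P : Subgroup Ω} (hP : P ≤ S) :
    e.im (centralizerIn S P) = centralizerIn S' (e.im P) := by
  refine le_antisymm (fun y hy => ?_) fun y hy => ?_
  · obtain ⟨g, hg, rfl⟩ := (e.mem_im inf_le_left).1 hy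
    refine mem_centralizerIn_of_conj (e.mem g hg.1) fun z hz => ?_
    obtain ⟨x, hx, rfl⟩ := (e.mem_im hP).1 hz
    rw [← e.map_conj hg.1 (hP hx), centralizerIn_conj hg hx]
  · refine (e.mem_im inf_le_left).2 ⟨e.invFun y, mem_centralizerIn_of_conj (e.mem' y hy.1)
      fun x hx => e.inj (mul_mem (mul_mem (e.mem' y hy.1) (hP hx)) (inv_mem (e.mem' y hy.1))) (hP hx) ?_,
      e.right y hy.1⟩
    rw [e.map_conj (e.mem' y hy.1) (hP hx), e.right y hy.1]
    exact centralizerIn_conj hy (e.mem_im_of_mem hx)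

theorem isFullyNormalized {P : Subgroup Ω} (h : F.IsFullyNormalized P) :
    F'.IsFullyNormalized (e.im P) := by
  refine ⟨e.im_le h.1, fun Q' hQ' => ?_⟩
  obtain ⟨Q, hQS, hQ, rfl⟩ := e.exists_isConj h.1 hQ'
  rw [← e.im_normalizerIn hQS, ← e.im_normalizerIn h.1, e.card_im (P := normalizerIn S Q) inf_le_left,
    e.card_im (P := normalizerIn S P) inf_le_left]
  exact h.2 Q hQ

theorem isFullyNormalized_iff {P : Subgroup Ω} (hP : P ≤ S) :
    F'.IsFullyNormalized (e.im P) ↔ F.IsFullyNormalized P :=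
  ⟨fun h => by simpa [e.symm_im_im hP] using e.symm.isFullyNormalized h, e.isFullyNormalized⟩

theorem im_Nx {P : Subgroup Ω} {f : Ω → Ω} (hf : IsMap F P f) :
    e.im (Nx S P f) = Nx S' (e.im P) (e.fn f) := by
  have hN : Nx S P f ≤ S := (Nx_le_normalizerIn S P f).trans inf_le_left
  refine le_antisymm (fun y hy => ?_) fun y hy => ?_
  · obtain ⟨g, hg, rfl⟩ := (e.mem_im hN).1 hy
    obtain ⟨hgN, h, hh, he⟩ := mem_Nx.1 hg
    refine mem_Nx.2 ⟨e.im_normalizerIn hf.le ▸ e.mem_im_of_mem hgN, e.toFun h, e.mem h hh,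
      fun z hz => ?_⟩
    obtain ⟨x, hx, rfl⟩ := (e.mem_im hf.le).1 hz
    have hgx := normalizerIn_conj hgN hx
    rw [← e.map_conj hgN.1 (hf.le hx), e.fn_apply f (hf.le hgx), e.fn_apply f (hf.le hx), he x hx,
      e.map_conj hh (hf.mem hx)]
  · obtain ⟨hyN, h, hh, he⟩ := mem_Nx.1 hy
    rw [← e.im_normalizerIn hf.le] at hyN
    obtain ⟨g, hg, rfl⟩ := (e.mem_im inf_le_left).1 hyN
    refine e.mem_im_of_mem (mem_Nx.2 ⟨hg, e.invFun h, e.mem' h hh, fun x hx => ?_⟩)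
    have hgx := normalizerIn_conj hg hx
    have h' := e.mem' h hh
    refine e.inj (hf.mem hgx) (mul_mem (mul_mem h' (hf.mem hx)) (inv_mem h')) ?_
    rw [e.map_conj h' (hf.mem hx), e.right h hh, ← e.fn_apply f (hf.le hgx),
      e.map_conj hg.1 (hf.le hx), he _ (e.mem_im_of_mem hx), e.fn_apply f (hf.le hx)]

theorem isReceptive {Q : Subgroup Ω} (h : F.IsReceptive Q) : F'.IsReceptive (e.im Q) := by
  obtain ⟨hQ, hr⟩ := isReceptive_iff.1 h
  refine isReceptive_iff.2 ⟨e.im_le hQ, fun P' f' hf' => ?_⟩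
  have h1 : IsIso F (e.symm.im P') Q (e.symm.fn f') := by
    simpa [e.symm_im_im hQ] using e.symm.isIso_fn hf'
  obtain ⟨f₁, hf₁, he⟩ := hr _ _ h1
  have heq : ∀ y ∈ P', e.fn (e.symm.fn f') y = f' y := fun y hy => by
    show e.toFun (e.invFun (f' (e.toFun (e.invFun y)))) = f' y
    rw [e.right y (hf'.le_left hy), e.right _ (hf'.1.mem hy)]
  have hN : Nx S' P' f' = Nx S' P' (e.fn (e.symm.fn f')) := by
    ext g
    refine ⟨fun hg => ?_, fun hg => ?_⟩ <;> obtain ⟨hgN, t, ht, h3⟩ := mem_Nx.1 hg <;>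
      refine mem_Nx.2 ⟨hgN, t, ht, fun x hx => ?_⟩
    · rw [heq x hx, heq _ (normalizerIn_conj hgN hx)]; exact h3 x hx
    · rw [← heq x hx, ← heq _ (normalizerIn_conj hgN hx)]; exact h3 x hx
  refine ⟨e.fn f₁, ?_, fun y hy => ?_⟩
  · have := e.isMap_fn hf₁
    rwa [e.im_Nx h1.1, e.im_symm_im hf'.le_left, ← hN] at this
  · rw [← heq y hy]
    exact congrArg e.toFun (he _ (e.symm.mem_im_of_mem hy))

/-- `P` is isomorphic to its image. -/
def equivIm {P : Subgroup Ω} (hP : P ≤ S) : P ≃* e.im P where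
  toFun x := ⟨e.toFun x, e.mem_im_of_mem x.2⟩
  invFun y := ⟨e.invFun y, e.invFun_mem hP y.2⟩
  left_inv x := Subtype.ext (e.left x (hP x.2))
  right_inv y := Subtype.ext (e.right y (e.im_le hP y.2))
  map_mul' x y := Subtype.ext (e.mul x (hP x.2) y (hP y.2))

theorem equivIm_congr_apply {P : Subgroup Ω} (hP : P ≤ S) (α : MulAut P) {x : Ω} (hx : x ∈ P) :
    ((MulAut.congr (e.equivIm hP) α ⟨e.toFun x, e.mem_im_of_mem hx⟩ : e.im P) : Ω') =
      e.toFun (α ⟨x, hx⟩ : P) := by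
  show e.toFun (α ((e.equivIm hP).symm _) : P) = _
  congr 3
  exact Subtype.ext (e.left x (hP hx))

theorem congr_mem_autGroup_iff {P : Subgroup Ω} (hP : P ≤ S) {α : MulAut P} :
    MulAut.congr (e.equivIm hP) α ∈ F'.autGroup (e.im P) ↔ α ∈ F.autGroup P := by
  rw [mem_autGroup_iff hP, mem_autGroup_iff (e.im_le hP),
    ← e.isMap_iff hP (f := autFn α) fun x hx => hP (autFn_mem α hx)]
  have h : ∀ y ∈ e.im P, e.fn (autFn α) y = autFn (MulAut.congr (e.equivIm hP) α) y := by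
    intro y hy
    obtain ⟨x, hx, rfl⟩ := (e.mem_im hP).1 hy
    rw [e.fn_apply _ (hP hx), autFn_apply _ hy, e.equivIm_congr_apply hP α hx, autFn_apply α hx]
  exact ⟨fun h1 => h1.congr fun y hy => (h y hy).symm, fun h1 => h1.congr h⟩

theorem congr_mem_autInducedBy_iff {P : Subgroup Ω} (hP : P ≤ S) {α : MulAut P} :
    MulAut.congr (e.equivIm hP) α ∈ autInducedBy S' (e.im P) ↔ α ∈ autInducedBy S P := by
  rw [mem_autInducedBy_iff, mem_autInducedBy_iff]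
  constructor
  · rintro ⟨g, hg, h⟩
    refine ⟨e.invFun g, e.mem' g hg, fun x => ?_⟩
    have hgS := e.mem' g hg
    refine e.inj (hP (α x).2) (mul_mem (mul_mem hgS (hP x.2)) (inv_mem hgS)) ?_
    rw [e.map_conj hgS (hP x.2), e.right g hg]
    exact (e.equivIm_congr_apply hP α x.2).symm.trans (h _)
  · rintro ⟨g, hg, h⟩
    refine ⟨e.toFun g, e.mem g hg, fun y => ?_⟩
    obtain ⟨x, hx, hxy⟩ := (e.mem_im hP).1 y.2
    rw [← hxy, ← e.map_conj hg (hP hx), ← h ⟨x, hx⟩, ← e.equivIm_congr_apply hP α hx]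
    congr 3
    exact Subtype.ext hxy.symm

theorem isFullyAutomized {p : ℕ} {P : Subgroup Ω} (h : F.IsFullyAutomized p P) :
    F'.IsFullyAutomized p (e.im P) := by
  obtain ⟨hP, hs⟩ := isFullyAutomized_iff.1 h
  refine isFullyAutomized_iff.2 ⟨e.im_le hP, ?_⟩
  have h1 := hs.map (MulAut.congr (e.equivIm hP))
  have key : ∀ (A : Subgroup (MulAut P)) (B : Subgroup (MulAut (e.im P))),
      (∀ α, MulAut.congr (e.equivIm hP) α ∈ B ↔ α ∈ A) →
      A.map (MulAut.congr (e.equivIm hP)).toMonoidHom = B := by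
    intro A B hAB
    ext β
    obtain ⟨α, rfl⟩ := (MulAut.congr (e.equivIm hP)).surjective β
    exact (Subgroup.mem_map_iff_mem (MulAut.congr (e.equivIm hP)).injective).trans (hAB α).symm
  rwa [key _ _ fun α => e.congr_mem_autInducedBy_iff hP,
    key _ _ fun α => e.congr_mem_autGroup_iff hP] at h1

theorem isSaturated {p : ℕ} (e : FIso F F') (h : F.IsSaturated p) : F'.IsSaturated p := by
  intro P' hP'
  obtain ⟨Q, hQ, hA, hR⟩ := h _ (e.symm.im_le hP')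
  refine ⟨e.im Q, ?_, e.isFullyAutomized hA, e.isReceptive hR⟩
  simpa [e.im_symm_im hP'] using e.isConj hQ

theorem isCentric {P : Subgroup Ω} (h : F.IsCentric P) : F'.IsCentric (e.im P) := by
  refine ⟨e.im_le h.1, fun Q' hQ' => ?_⟩
  obtain ⟨Q, hQS, hQ, rfl⟩ := e.exists_isConj h.1 hQ'
  rw [← e.im_centralizerIn hQS]
  exact e.im_mono (h.2 Q hQ)

theorem stronglyClosed {T : Subgroup Ω} (h : F.StronglyClosed T) : F'.StronglyClosed (e.im T) := by
  refine ⟨e.im_le h.1, fun R' hR' φ' hφ' x => ?_⟩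
  obtain ⟨φ, hφ, he⟩ := e.symm.isMap_fn (isMap_toFn hφ')
  have hR'S : R' ≤ S' := hR'.trans (e.im_le h.1)
  have hle : e.symm.im R' ≤ T :=
    (e.symm.im_mono hR').trans_eq (e.symm_im_im h.1)
  have hx : e.invFun x ∈ e.symm.im R' := e.symm.mem_im_of_mem x.2
  have h1 := h.2 _ hle φ hφ ⟨_, hx⟩
  rw [he _ hx] at h1
  have h2 := e.mem_im_of_mem h1
  have h3 : e.toFun (e.symm.fn (toFn φ') (e.invFun x)) = φ' x := by
    show e.toFun (e.invFun (toFn φ' (e.toFun (e.invFun (x : Ω'))))) = φ' x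
    rw [e.right _ (hR'S x.2), toFn_coe φ' x, e.right _ ((F'.le_of_mem hφ').2 x)]
  rwa [h3] at h2

theorem im_sup {P Q : Subgroup Ω} (hP : P ≤ S) (hQ : Q ≤ S) : e.im (P ⊔ Q) = e.im P ⊔ e.im Q := by
  refine le_antisymm ?_ (sup_le (e.im_mono le_sup_left) (e.im_mono le_sup_right))
  have h : P ⊔ Q ≤ e.symm.im (e.im P ⊔ e.im Q) :=
    sup_le ((e.symm_im_im hP).symm.trans_le (e.symm.im_mono le_sup_left))
      ((e.symm_im_im hQ).symm.trans_le (e.symm.im_mono le_sup_right))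
  exact (e.im_mono h).trans_eq (e.im_symm_im (sup_le (e.im_le hP) (e.im_le hQ)))

theorem isNormal {Q : Subgroup Ω} (h : F.IsNormal Q) : F'.IsNormal (e.im Q) := by
  refine ⟨e.im_le h.1, fun P' φ' hφ' => ?_⟩
  have hP' := (F'.le_of_mem hφ').1
  have hf := e.symm.isMap_fn (isMap_toFn hφ')
  obtain ⟨φ, hφ, he⟩ := hf
  obtain ⟨ψ, hψ, hψP, hψQ⟩ := h.2 _ φ hφ
  have hm := e.isMap_fn (isMap_toFn hψ)
  rw [e.im_sup (e.symm.im_le hP') h.1, e.im_symm_im hP'] at hm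
  obtain ⟨ψ', hψ', he'⟩ := hm
  have hval : ∀ z (hz : z ∈ e.symm.im P' ⊔ Q) (hz' : e.toFun z ∈ P' ⊔ e.im Q),
      ψ' ⟨e.toFun z, hz'⟩ = e.toFun (ψ ⟨z, hz⟩) := by
    intro z hz hz'
    rw [he' _ hz', e.fn_apply _ ((sup_le (e.symm.im_le hP') h.1) hz), toFn_apply ψ hz]
  refine ⟨ψ', hψ', fun x => ?_, ?_⟩
  · have hx : e.invFun x ∈ e.symm.im P' := e.symm.mem_im_of_mem x.2
    have hx' : e.toFun (e.invFun (x : Ω')) ∈ P' ⊔ e.im Q := by
      rw [e.right _ (hP' x.2)]; exact Subgroup.mem_sup_left x.2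
    refine ((congrArg ψ' (Subtype.ext (e.right _ (hP' x.2)).symm)).trans
      (hval _ (Subgroup.mem_sup_left hx) hx')).trans ?_
    rw [show ψ ⟨e.invFun x, Subgroup.mem_sup_left hx⟩ = φ ⟨_, hx⟩ from hψP ⟨_, hx⟩, he _ hx]
    show e.toFun (e.invFun (toFn φ' (e.toFun (e.invFun (x : Ω'))))) = φ' x
    rw [e.right _ (hP' x.2), toFn_coe φ' x, e.right _ ((F'.le_of_mem hφ').2 x)]
  · refine le_antisymm ?_ fun y hy => ?_
    · rintro _ ⟨z, hz, rfl⟩
      obtain ⟨q, hq, hqz⟩ := (e.mem_im h.1).1 hz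
      rw [show z = ⟨e.toFun q, hqz ▸ z.2⟩ from Subtype.ext hqz.symm,
        hval q (Subgroup.mem_sup_right hq)]
      exact e.mem_im_of_mem (hψQ.le ⟨⟨q, Subgroup.mem_sup_right hq⟩, hq, rfl⟩)
    · obtain ⟨q, hq, rfl⟩ := (e.mem_im h.1).1 hy
      obtain ⟨z, hz, rfl⟩ := hψQ.ge hq
      exact ⟨⟨_, Subgroup.mem_sup_right (e.mem_im_of_mem hz)⟩, e.mem_im_of_mem hz,
        hval z z.2 _⟩

theorem isConstrained {p : ℕ} (e : FIso F F') (h : F.IsConstrained p) : F'.IsConstrained p := by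
  obtain ⟨hs, Q, hn, hc⟩ := h
  exact ⟨e.isSaturated hs, e.im Q, e.isNormal hn, e.isCentric hc⟩

end FIso

end Cfsg.Agent.FusionIso
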