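import Cfsg.Agent.Lib.FusionIso.Subgroup
import Cfsg.Agent.Lib.Fusion.Group

/-
Realizations of fusion systems.
Main results (namespace `Cfsg.Agent.FusionIso`): `isMap_realized`, `ofRealized`,
`isRealizedBy_codRestrict`, `isRealizedBy_quotient`.
-/

set_option autoImplicit false

namespace Cfsg.Agent.FusionIso

open Cfsg Cfsg.FusionSystem Cfsg.Agent.Fusion

variable {Ω G : Type*} [Group Ω] [Group G] {S : Subgroup Ω} {F : FusionSystem S} {ι : S →* G}

/-- The maps of a realized system are the conjugations of the group. -/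
theorem isMap_realized (h : F.IsRealizedBy ι) {P : Subgroup Ω} {f : Ω → Ω}
    (hf : IsMap F P f) :
    ∃ g : G, ∀ (x : Ω) (hx : x ∈ P),
      extendOne ι (f x) = g * extendOne ι x * g⁻¹ := by
  obtain ⟨φ, hφ, e⟩ := hf
  obtain ⟨g, hg⟩ := (h.2 P (F.le_of_mem hφ).1 φ (F.le_of_mem hφ).2).1 hφ
  refine ⟨g, fun x hx => ?_⟩
  rw [← e x hx, extendOne_apply ι ((F.le_of_mem hφ).2 _),
    extendOne_apply ι ((F.le_of_mem hφ).1 hx)]
  exact hg ⟨x, hx⟩

/-- A realized system is isomorphic to the system of the group on the image. -/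
noncomputable def ofRealized (h : F.IsRealizedBy ι) :
    FIso F (groupFusionSystem ι.range) where
  toFun := extendOne ι
  invFun := rangeInv ι
  mem x hx := by rw [extendOne_apply ι hx]; exact ⟨_, rfl⟩
  mem' y hy := (rangeInv_spec ι hy).1
  left x hx := by
    have hy : extendOne ι x ∈ ι.range := ⟨⟨x, hx⟩, (extendOne_apply ι hx).symm⟩
    obtain ⟨h1, h2⟩ := rangeInv_spec ι hy
    exact congrArg Subtype.val (h.1 (h2.trans (extendOne_apply ι hx)))
  right y hy := by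
    obtain ⟨h1, h2⟩ := rangeInv_spec ι hy
    rw [extendOne_apply ι h1, h2]
  mul x hx y hy := by
    rw [extendOne_apply ι hx, extendOne_apply ι hy, extendOne_apply ι (mul_mem hx hy), ← map_mul]
    rfl
  fwd P f hf := by
    obtain ⟨g, hg⟩ := isMap_realized h hf
    have hle : imT (extendOne ι) P ≤ ι.range := by
      rw [imT, Subgroup.closure_le]
      rintro _ ⟨x, hx, rfl⟩
      exact ⟨⟨x, hf.le hx⟩, (extendOne_apply ι (hf.le hx)).symm⟩
    refine isMap_group_iff.2 ⟨hle, g, fun y hy => ?_⟩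
    obtain ⟨x, hx, rfl⟩ := (mem_imT fun a ha b hb => by
      rw [extendOne_apply ι (hf.le ha), extendOne_apply ι (hf.le hb),
        extendOne_apply ι (mul_mem (hf.le ha) (hf.le hb)), ← map_mul]
      rfl).1 hy
    have hinv : rangeInv ι (extendOne ι x) = x := by
      obtain ⟨h1, h2⟩ := rangeInv_spec ι (hle hy)
      exact congrArg Subtype.val (h.1 (h2.trans (extendOne_apply ι (hf.le hx))))
    rw [← hg x hx, hinv]
    exact ⟨⟨⟨f x, hf.mem hx⟩, (extendOne_apply ι (hf.mem hx)).symm⟩, rfl⟩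
  bwd P' f' hf' := by
    obtain ⟨hP', g, hg⟩ := isMap_group_iff.1 hf'
    have hmul : ∀ a ∈ P', ∀ b ∈ P', rangeInv ι (a * b) = rangeInv ι a * rangeInv ι b := by
      intro a ha b hb
      obtain ⟨h1, h2⟩ := rangeInv_spec ι (hP' ha)
      obtain ⟨h3, h4⟩ := rangeInv_spec ι (hP' hb)
      obtain ⟨h5, h6⟩ := rangeInv_spec ι (hP' (mul_mem ha hb))
      refine congrArg Subtype.val (h.1 (a₂ := ⟨_, h1⟩ * ⟨_, h3⟩) (h6.trans ?_))
      rw [map_mul, h2, h4]
    have hle : imT (rangeInv ι) P' ≤ S := fun x hx => by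
      obtain ⟨y, hy, rfl⟩ := (mem_imT hmul).1 hx
      exact (rangeInv_spec ι (hP' hy)).1
    have hval : ∀ (x : Ω) (hx : x ∈ imT (rangeInv ι) P'), extendOne ι x ∈ P' := fun x hx => by
      obtain ⟨y, hy, rfl⟩ := (mem_imT hmul).1 hx
      obtain ⟨h1, h2⟩ := rangeInv_spec ι (hP' hy)
      rwa [extendOne_apply ι h1, h2]
    have hfv : ∀ (x : Ω) (hx : x ∈ imT (rangeInv ι) P'),
        ∃ hm : rangeInv ι (f' (extendOne ι x)) ∈ S,
          ι ⟨_, hm⟩ = g * extendOne ι x * g⁻¹ := fun x hx => by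
      obtain ⟨h1, h2⟩ := hg _ (hval x hx)
      rw [h2]
      exact rangeInv_spec ι h1
    have hmap : ∀ a b : imT (rangeInv ι) P', rangeInv ι (f' (extendOne ι ((a * b : _) : Ω))) =
        rangeInv ι (f' (extendOne ι a)) * rangeInv ι (f' (extendOne ι b)) := by
      intro a b
      obtain ⟨h1, h2⟩ := hfv a a.2
      obtain ⟨h3, h4⟩ := hfv b b.2
      obtain ⟨h5, h6⟩ := hfv _ (a * b).2
      refine congrArg Subtype.val (h.1 (a₂ := ⟨_, h1⟩ * ⟨_, h3⟩) (h6.trans ?_))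
      rw [map_mul, h2, h4, extendOne_apply ι (hle a.2), extendOne_apply ι (hle b.2),
        extendOne_apply ι (hle (a * b).2),
        show (⟨((a * b : _) : Ω), hle (a * b).2⟩ : S) = ⟨a, hle a.2⟩ * ⟨b, hle b.2⟩ from rfl,
        map_mul]
      group
    refine ⟨MonoidHom.mk' _ hmap, (h.2 _ hle _ fun x => (hfv x x.2).1).2 ⟨g, fun x => ?_⟩,
      fun x _ => rfl⟩
    rw [← extendOne_apply ι (hle x.2)]
    exact (hfv x x.2).2

/-- A system realized in `G` whose fusion is controlled by `H` is realized in `H`. -/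
theorem isRealizedBy_codRestrict (h : F.IsRealizedBy ι) {H : Subgroup G} (hH : ι.range ≤ H)
    (hfus : ∀ P : Subgroup G, (fusionSystemOfSubgroup H ι.range hH).Hom P =
      (groupFusionSystem ι.range).Hom P) :
    F.IsRealizedBy (ι.codRestrict H fun x => hH ⟨x, rfl⟩) := by
  refine ⟨fun a b hab => h.1 (congrArg Subtype.val hab), fun P hP φ hφ => ⟨fun hm => ?_, ?_⟩⟩
  · obtain ⟨g, hg⟩ := (h.2 P hP φ hφ).1 hm
    set P' := (P.subgroupOf S).map ι with hP'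
    have hm' : conjHom P' g ∈ (groupFusionSystem ι.range).Hom P' := by
      refine ⟨fun y hy => ?_, fun y => ?_, g, fun y => rfl⟩
      · obtain ⟨x, -, rfl⟩ := hy
        exact ⟨x, rfl⟩
      · obtain ⟨⟨x, hxS⟩, hx, hxy⟩ := y.2
        show g * (y : G) * g⁻¹ ∈ _
        rw [← hxy, ← hg ⟨x, hx⟩]
        exact ⟨_, rfl⟩
    rw [← hfus] at hm'
    obtain ⟨-, -, k, hk, hkg⟩ := hm'
    refine ⟨⟨k, hk⟩, fun x => Subtype.ext ?_⟩
    show ι _ = k * ι _ * k⁻¹
    rw [hg x]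
    exact hkg ⟨ι ⟨x, hP x.2⟩, ⟨⟨x, hP x.2⟩, x.2, rfl⟩⟩
  · rintro ⟨g, hg⟩
    exact (h.2 P hP φ hφ).2 ⟨g, fun x => congrArg Subtype.val (hg x)⟩

/-- A system realized on a Sylow subgroup of `G` is realized in every quotient by a normal subgroup
of order prime to `p`. -/
theorem isRealizedBy_quotient [Finite G] {p : ℕ} [Fact p.Prime] (hS : IsPGroup p S)
    (h : F.IsRealizedBy ι) {K : Subgroup G} [K.Normal] (hK : (Nat.card K).Coprime p) :
    F.IsRealizedBy ((QuotientGroup.mk' K).comp ι) := by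
  have hpg : ∀ Q : Subgroup Ω, IsPGroup p ((Q.subgroupOf S).map ι) := fun Q =>
    (hS.to_subgroup _).map ι
  have htriv : ∀ x ∈ ι.range, x ∈ K → x = 1 := by
    rintro _ ⟨s, rfl⟩ hx
    obtain ⟨k, hk⟩ := hS s
    have h1 : orderOf (ι s) ∣ p ^ k := orderOf_dvd_of_pow_eq_one (by rw [← map_pow, hk, map_one])
    have h2 : orderOf (ι s) ∣ Nat.card K := Subgroup.orderOf_dvd_natCard (s := K) hx
    exact orderOf_eq_one_iff.1 (Nat.eq_one_of_dvd_coprimes (hK.symm.pow_left k) h1 h2)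
  refine ⟨fun a b hab => h.1 ?_, fun P hP φ hφ => ⟨fun hm => ?_, ?_⟩⟩
  · have h1 : (ι a)⁻¹ * ι b ∈ K := QuotientGroup.eq.1 hab
    exact inv_mul_eq_one.1 (htriv _ (mul_mem (inv_mem ⟨a, rfl⟩) ⟨b, rfl⟩) h1)
  · obtain ⟨g, hg⟩ := (h.2 P hP φ hφ).1 hm
    refine ⟨g, fun x => ?_⟩
    show ((ι _ : G) : G ⧸ K) = (g : G ⧸ K) * (ι _ : G) * (g : G ⧸ K)⁻¹
    rw [hg x]
    rfl
  · rintro ⟨gb, hgb⟩
    obtain ⟨g, rfl⟩ := QuotientGroup.mk'_surjective K gb
    have hgK : ∀ x : P, (ι ⟨φ x, hφ x⟩)⁻¹ * (g * ι ⟨x, hP x.2⟩ * g⁻¹) ∈ K := fun x =>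
      QuotientGroup.eq.1 (hgb x)
    set Q' := (φ.range.subgroupOf S).map ι with hQ'
    have hmemQ : ∀ x : P, ι ⟨φ x, hφ x⟩ ∈ Q' := fun x =>
      ⟨⟨φ x, hφ x⟩, Subgroup.mem_subgroupOf.2 ⟨x, rfl⟩, rfl⟩
    set H := ((P.subgroupOf S).map ι).map (MulAut.conj g).toMonoidHom with hHdef
    have hHle : H ≤ Q' ⊔ K := by
      rintro _ ⟨_, ⟨⟨x, hxS⟩, hx, rfl⟩, rfl⟩
      show g * ι ⟨x, hxS⟩ * g⁻¹ ∈ Q' ⊔ K
      have := mul_mem (Subgroup.mem_sup_left (T := K) (hmemQ ⟨x, hx⟩))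
        (Subgroup.mem_sup_right (hgK ⟨x, hx⟩))
      rwa [mul_inv_cancel_left] at this
    have hsyl : IsSylowIn p Q' (Q' ⊔ K) := by
      refine ⟨le_sup_left, hpg _, fun C hC1 hC2 hC3 => le_antisymm ?_ hC1⟩
      intro c hc
      have hc' := hC2 hc
      rw [← SetLike.mem_coe, Subgroup.mul_normal] at hc'
      obtain ⟨q, hq, k, hk, rfl⟩ := hc'
      have hkC : k ∈ C := by simpa using mul_mem (inv_mem (hC1 hq)) hc
      obtain ⟨n, hn⟩ := hC3 ⟨k, hkC⟩
      have h1 : orderOf k ∣ p ^ n := orderOf_dvd_of_pow_eq_one (congrArg Subtype.val hn)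
      have h2 : orderOf k ∣ Nat.card K := Subgroup.orderOf_dvd_natCard (s := K) hk
      rw [orderOf_eq_one_iff.1 (Nat.eq_one_of_dvd_coprimes (hK.symm.pow_left n) h1 h2)]
      show q * 1 ∈ Q'
      rwa [mul_one]
    obtain ⟨a, ha, haH⟩ := hsyl.exists_conj_le ((hpg P).map _) hHle
    rw [← SetLike.mem_coe, Subgroup.mul_normal] at ha
    obtain ⟨q, hq, k, hk, rfl⟩ := ha
    refine (h.2 P hP φ hφ).2 ⟨k * g, fun x => ?_⟩
    have h1 : k * (g * ι ⟨x, hP x.2⟩ * g⁻¹) * k⁻¹ ∈ Q' := by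
      have := mul_mem (mul_mem (inv_mem hq) (haH _ ⟨ι ⟨x, hP x.2⟩, ⟨_, x.2, rfl⟩, rfl⟩)) hq
      simpa [mul_assoc] using this
    set w := g * ι ⟨x, hP x.2⟩ * g⁻¹ with hw
    set y := ι ⟨φ x, hφ x⟩ with hy
    have h2 : y⁻¹ * (k * w * k⁻¹) ∈ K := by
      have h3 : y⁻¹ * k * y ∈ K := by simpa using ‹K.Normal›.conj_mem k hk y⁻¹
      have := mul_mem (mul_mem h3 (hgK x)) (inv_mem hk)
      rw [← hw, ← hy] at this
      simpa [mul_assoc] using this
    have h4 : y⁻¹ * (k * w * k⁻¹) ∈ ι.range := by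
      refine mul_mem (inv_mem ⟨_, rfl⟩) ?_
      obtain ⟨s, -, hs⟩ := h1
      exact ⟨s, hs⟩
    rw [inv_mul_eq_one.1 (htriv _ h4 h2), hw]
    group

end Cfsg.Agent.FusionIso
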