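import Cfsg.Agent.EqLemmas
import Cfsg.Agent.Lib.FusionIso.Components

/-
Images of subnormal subsystems and of components under maps of the ambient system.
Main results (namespace `Cfsg.Agent.FusionIso`): `FIso.trans`, `autIso`, `invariantAutIso`,
`eq_of_iso`, `exists_subnormal_image`, `isComponentIn_image`.
-/

set_option autoImplicit false

namespace Cfsg.Agent.FusionIso

open Cfsg Cfsg.FusionSystem Cfsg.Agent.Fusion Cfsg.Agent.FusionNormal

variable {Ω Ω' Ω'' : Type*} [Group Ω] [Group Ω'] [Group Ω''] {S : Subgroup Ω} {S' : Subgroup Ω'}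
  {S'' : Subgroup Ω''} {F : FusionSystem S} {F' : FusionSystem S'} {F'' : FusionSystem S''}

theorem FIso.imT_comp (e : FIso F F') (e' : FIso F' F'') {P : Subgroup Ω} (hP : P ≤ S) :
    imT (fun x => e'.toFun (e.toFun x)) P = e'.im (e.im P) := by
  refine le_antisymm ?_ fun z hz => ?_
  · rw [imT, Subgroup.closure_le]
    rintro _ ⟨x, hx, rfl⟩
    exact e'.mem_im_of_mem (e.mem_im_of_mem hx)
  · obtain ⟨y, hy, rfl⟩ := (e'.mem_im (e.im_le hP)).1 hz
    obtain ⟨x, hx, rfl⟩ := (e.mem_im hP).1 hy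
    exact Subgroup.subset_closure ⟨x, hx, rfl⟩

/-- Composition of isomorphisms of fusion systems. -/
noncomputable def FIso.trans (e : FIso F F') (e' : FIso F' F'') : FIso F F'' where
  toFun x := e'.toFun (e.toFun x)
  invFun z := e.invFun (e'.invFun z)
  mem x hx := e'.mem _ (e.mem x hx)
  mem' z hz := e.mem' _ (e'.mem' z hz)
  left x hx := by rw [e'.left _ (e.mem x hx), e.left x hx]
  right z hz := by rw [e.right _ (e'.mem' z hz), e'.right z hz]
  mul x hx y hy := by rw [e.mul x hx y hy, e'.mul _ (e.mem x hx) _ (e.mem y hy)]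
  fwd P f hf := by
    rw [e.imT_comp e' hf.le]
    exact e'.fwd _ _ (e.fwd P f hf)
  bwd P f hf := by
    rw [show imT (fun z => e.invFun (e'.invFun z)) P = e.symm.im (e'.symm.im P) from
      e'.symm.imT_comp e.symm hf.le]
    exact e.bwd _ _ (e'.bwd P f hf)

/-- An automorphism in the system gives an isomorphism of the system with itself. -/
noncomputable def autIso {a b : Ω → Ω} (ha : IsMap F S a) (hb : IsMap F S b)
    (hab : ∀ x ∈ S, b (a x) = x) (hba : ∀ x ∈ S, a (b x) = x) : FIso F F where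
  toFun := a
  invFun := b
  mem _ hx := ha.mem hx
  mem' _ hx := hb.mem hx
  left := hab
  right := hba
  mul _ hx _ hy := ha.map_mul hx hy
  fwd P f hf := by
    have h1 : ∀ y ∈ imT a P, b y ∈ P := fun y hy => by
      obtain ⟨x, hx, rfl⟩ := (ha.mem_img_iff hf.le).1 hy
      rwa [hab x (hf.le hx)]
    exact (((hb.mono (ha.img_le hf.le fun x hx => ha.mem (hf.le hx))).comp hf h1).comp ha
      fun y hy => hf.mem (h1 y hy))
  bwd P f hf := by
    have h1 : ∀ y ∈ imT b P, a y ∈ P := fun y hy => by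
      obtain ⟨x, hx, rfl⟩ := (hb.mem_img_iff hf.le).1 hy
      rwa [hba x (hf.le hx)]
    exact (((ha.mono (hb.img_le hf.le fun x hx => hb.mem (hf.le hx))).comp hf h1).comp hb
      fun y hy => hf.mem (h1 y hy))

/-- An automorphism of `T` in `F` gives an isomorphism of an invariant subsystem over `T` with itself. -/
noncomputable def invariantAutIso {T : Subgroup Ω} {E : FusionSystem T} (hE : E.IsInvariantIn F)
    {α : MulAut T} (hα : α ∈ F.autGroup T) : FIso E E where
  toFun := autFn α
  invFun := autFn α⁻¹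
  mem _ hx := autFn_mem α hx
  mem' _ hx := autFn_mem α⁻¹ hx
  left x hx := by
    rw [autFn_apply α hx, autFn_apply α⁻¹ (α ⟨x, hx⟩).2, MulAut.inv_apply_self]
  right x hx := by
    rw [autFn_apply α⁻¹ hx, autFn_apply α (α⁻¹ ⟨x, hx⟩).2, MulAut.apply_inv_self]
  mul x hx y hy := ((mem_autGroup_iff hE.2.1.1).1 hα).map_mul hx hy
  fwd P f hf := by
    obtain ⟨g, hg, hge⟩ := transport_map hE hf.le hf hα
    refine hg.congr fun y hy => ?_
    obtain ⟨x, hx, rfl⟩ := (((mem_autGroup_iff hE.2.1.1).1 hα).mem_img_iff hf.le).1 hy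
    rw [hge x hx, autFn_apply α (hf.le hx), autFn_apply α⁻¹ (α ⟨x, hf.le hx⟩).2,
      MulAut.inv_apply_self]
  bwd P f hf := by
    obtain ⟨g, hg, hge⟩ := transport_map hE hf.le hf (inv_mem hα)
    refine hg.congr fun y hy => ?_
    obtain ⟨x, hx, rfl⟩ := (((mem_autGroup_iff hE.2.1.1).1 (inv_mem hα)).mem_img_iff hf.le).1 hy
    rw [hge x hx, autFn_apply α⁻¹ (hf.le hx), autFn_apply α (α⁻¹ ⟨x, hf.le hx⟩).2,
      MulAut.apply_inv_self]

/-- Two systems that are images of the same system along maps agreeing on it are equal. -/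
theorem eq_of_iso {T₁ : Subgroup Ω'} {E₁ E₂ : FusionSystem T₁} {T : Subgroup Ω} {C : FusionSystem T}
    (g : FIso C E₁) (g' : FIso C E₂) (h : ∀ x ∈ T, g.toFun x = g'.toFun x) : E₁ = E₂ := by
  have key : ∀ {A B : FusionSystem T₁} (a : FIso C A) (b : FIso C B),
      (∀ x ∈ T, a.toFun x = b.toFun x) → A ≤ B := by
    intro A B a b hab
    refine le_of_isMap fun P f hf => ?_
    have h1 : IsMap C (a.symm.im P) (a.symm.fn f) := a.symm.isMap_fn hf
    have h2 := b.isMap_fn h1
    have hP : b.im (a.symm.im P) = P := by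
      refine (congrArg Subgroup.closure (Set.image_congr fun x hx => (hab x (h1.le hx)).symm)).trans ?_
      exact a.im_symm_im hf.le
    rw [hP] at h2
    refine h2.congr fun y hy => ?_
    have hy' : b.invFun y = a.invFun y := by
      have hay := a.mem' y (hf.le hy)
      conv_lhs => rw [← a.right y (hf.le hy), hab _ hay]
      exact b.left _ hay
    show b.toFun (a.invFun (f (a.toFun (b.invFun y)))) = f y
    rw [hy', a.right y (hf.le hy), ← hab _ (a.mem' _ (hf.mem hy)), a.right _ (hf.mem hy)]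
  exact ext_of_le (key g g' h) (key g' g fun x hx => (h x hx).symm)

theorem le_of_subnormal {T : Subgroup Ω} {E : FusionSystem T} {S : Subgroup Ω} {F : FusionSystem S}
    {p : ℕ} (hE : E.IsSubnormalIn F p) : T ≤ S := by
  induction hE with
  | refl => exact le_rfl
  | step _ hn ih => exact ih.trans hn.1.2.2.2.1.1

/-- The image of a subnormal subsystem under a map of the system is subnormal. -/
theorem exists_subnormal_image {T : Subgroup Ω} {C : FusionSystem T} {S : Subgroup Ω}
    {F : FusionSystem S} {p : ℕ} (hC : C.IsSubnormalIn F p) :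
    Finite S → ∀ γ : Ω → Ω, IsMap F T γ → ∃ (T' : Subgroup Ω) (C' : FusionSystem T') (g : FIso C C'),
      (∀ x ∈ T, g.toFun x = γ x) ∧ C'.IsSubnormalIn F p := by
  induction hC with
  | @refl F p =>
    intro _ γ hγ
    have hiso : IsIso F _ _ γ := ⟨hγ, eq_of_le_of_card le_rfl hγ.img_le_S (hγ.card_img le_rfl).ge⟩
    obtain ⟨δ, hδ, h1, h2⟩ := hiso.symm
    exact ⟨_, F, autIso hγ hδ.1 h1 h2, fun x _ => rfl, .refl F p⟩
  | @step T U S E D F hsub hn ih =>
    intro _ γ hγ
    have hinv := hn.1.2.2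
    have hfin := finite_of_le hinv.2.1.1
    have hTU := le_of_subnormal hsub
    obtain ⟨α, hα, f₀, hf₀, hfe⟩ := frattini_map hinv hTU hγ
    obtain ⟨T₁, C₁, g₁, h1, h3⟩ := ih hfin f₀ hf₀
    obtain ⟨T', C', g₂, h4, -, h5⟩ := exists_subnormal h3 (invariantAutIso hinv hα) hn.1.1
    refine ⟨T', C', g₁.trans g₂, fun x hx => ?_, .step h5 hn⟩
    show g₂.toFun (g₁.toFun x) = γ x
    rw [h1 x hx, h4, hfe x hx]
    rfl

/-- The image of a component under a map of the system is a component. -/
theorem isComponentIn_image [Finite S] {p : ℕ} {T : Subgroup Ω} {C : FusionSystem T}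
    (hC : C.IsComponentIn F p) {γ : T →* Ω} (hγ : γ ∈ F.Hom T) {E : FusionSystem γ.range}
    (hE : C.IsFactorSystem ⊥ γ E) : E.IsComponentIn F p := by
  obtain ⟨T', C', g, hg, hsub⟩ := exists_subnormal_image hC.1 inferInstance (toFn γ) (isMap_toFn hγ)
  have hext : ∀ x ∈ T, (ofFactorBot hE).toFun x = toFn γ x := fun x hx => by
    show extendOne γ x = toFn γ x
    rw [extendOne_apply γ hx, toFn_apply γ hx]
  have hT' : T' = γ.range := by
    rw [← g.im_top, ← toFn_img γ]
    exact img_congr hg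
  subst hT'
  have heq : C' = E := eq_of_iso g (ofFactorBot hE) fun x hx => (hg x hx).trans (hext x hx).symm
  exact ⟨heq ▸ hsub, (ofFactorBot hE).quasisimple hC.2⟩

end Cfsg.Agent.FusionIso
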